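import Mathlib
import Groth.Prelude.Def_Smoothing
import Groth.Agent.Lib.Helper8.StdEl.A

set_option autoImplicit false
universe u
open MvPolynomial

namespace Groth.Agent.H5.Des.S31

/-- weak Cauchy–Binet, arbitrary finite index types -/
theorem det_mul_eq_sum {R : Type*} [CommRing R] {σ ι : Type*} [Fintype σ] [DecidableEq σ]
    [Fintype ι] [DecidableEq ι] (B : Matrix σ ι R) (C : Matrix ι σ R) :
    (B * C).det = ∑ κ : σ → ι, (∏ i, B i (κ i)) * (C.submatrix κ id).det := by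
  have h1 : (B * C) = fun i => ∑ k, B i k • C k := by
    ext i j
    simp [Matrix.mul_apply, Finset.sum_apply]
  have h2 : (B * C).det = (Matrix.detRowAlternating (R := R) (n := σ)).toMultilinearMap
      (fun i => ∑ k, B i k • C k) := by
    rw [h1]; rfl
  rw [h2, MultilinearMap.map_sum]
  refine Finset.sum_congr rfl fun κ _ => ?_
  rw [MultilinearMap.map_smul_univ, smul_eq_mul]
  rfl

/-- transposed form: `det (J * H) = Σ_κ (∏ H (κ k) k) * det (J restricted to columns κ)` -/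
theorem det_mul_eq_sum' {R : Type*} [CommRing R] {σ ι : Type*} [Fintype σ] [DecidableEq σ]
    [Fintype ι] [DecidableEq ι] (J : Matrix σ ι R) (H : Matrix ι σ R) :
    (J * H).det = ∑ κ : σ → ι, (∏ k, H (κ k) k) * (J.submatrix id κ).det := by
  rw [← Matrix.det_transpose, Matrix.transpose_mul, det_mul_eq_sum]
  refine Finset.sum_congr rfl fun κ _ => ?_
  congr 1
  rw [← Matrix.det_transpose]
  rfl

theorem exists_section_loc {R T₀ A T B : Type*} [CommRing R] [CommRing T₀] [CommRing A]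
    [CommRing T] [CommRing B] [Algebra R T₀] [Algebra R A] [Algebra R T] [Algebra R B]
    [Algebra T₀ T] [Algebra A B] [IsScalarTower R T₀ T] [IsScalarTower R A B]
    (ψ₀ : T₀ →ₐ[R] A) (hψ₀ : Function.Surjective ψ₀) (S : Submonoid T₀)
    [IsLocalization S T] [IsLocalization (S.map ψ₀) B] [Algebra.FormallySmooth R B]
    (hK : ∀ a b : T₀, ψ₀ a = 0 → ψ₀ b = 0 → a * b = 0) :
    ∃ σ' : A →ₐ[R] T,
      (∀ x y : T₀, (algebraMap T₀ T x - σ' (ψ₀ x)) * (algebraMap T₀ T y - σ' (ψ₀ y)) = 0) ∧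
      ∀ d : T₀, ψ₀ d = 0 → ∀ x : T₀, algebraMap T₀ T d * (algebraMap T₀ T x - σ' (ψ₀ x)) = 0 := by
  classical
  have hunit : ∀ y : S, IsUnit (((IsScalarTower.toAlgHom R A B).comp ψ₀) y) := fun y =>
    IsLocalization.map_units B (⟨ψ₀ y, Submonoid.mem_map_of_mem ψ₀ y.2⟩ : S.map ψ₀)
  let π : T →ₐ[R] B := IsLocalization.liftAlgHom (M := S) (S := T) hunit
  have hπ : ∀ x : T₀, π (algebraMap T₀ T x) = algebraMap A B (ψ₀ x) :=
    fun x => IsLocalization.lift_eq _ x
  have hπsurj : Function.Surjective π := by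
    intro b
    obtain ⟨a, s, rfl⟩ := IsLocalization.exists_mk'_eq (S.map ψ₀) b
    obtain ⟨pa, rfl⟩ := hψ₀ a
    obtain ⟨ps, hpsS, hps⟩ := Submonoid.mem_map.mp s.2
    refine ⟨IsLocalization.mk' T pa ⟨ps, hpsS⟩, ?_⟩
    rw [IsLocalization.eq_mk'_iff_mul_eq, ← hps]
    have h1 : algebraMap A B (ψ₀ ps) = π (algebraMap T₀ T ps) := (hπ ps).symm
    rw [h1, ← map_mul]
    have := IsLocalization.mk'_spec T pa (⟨ps, hpsS⟩ : S)
    rw [this, hπ]
  have hker : ∀ x : T, π x = 0 → ∃ (k : T₀) (t : T), ψ₀ k = 0 ∧ x = t * algebraMap T₀ T k := by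
    intro x hx
    obtain ⟨y, s, rfl⟩ := IsLocalization.exists_mk'_eq S x
    have h1 : algebraMap A B (ψ₀ y) = 0 := by
      have h2 := congrArg (· * π (algebraMap T₀ T (s : T₀))) hx
      simp only [zero_mul, ← map_mul, IsLocalization.mk'_spec] at h2
      rw [hπ] at h2; exact h2
    obtain ⟨cA, hcA⟩ := (IsLocalization.map_eq_zero_iff (S.map ψ₀) _ (ψ₀ y)).mp h1
    obtain ⟨pc, hpcS, hpc⟩ := Submonoid.mem_map.mp cA.2
    obtain ⟨w, hw⟩ := (IsLocalization.map_units T (⟨pc, hpcS⟩ : S)).exists_left_inv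
    refine ⟨pc * y, w * IsLocalization.mk' T 1 s, ?_, ?_⟩
    · rw [map_mul]
      have : ψ₀ pc = (cA : A) := hpc
      rw [this]; exact hcA
    rw [map_mul]
    have h3 : IsLocalization.mk' T y s = algebraMap T₀ T y * IsLocalization.mk' T 1 s := by
      rw [IsLocalization.mul_mk'_eq_mk'_of_mul, mul_one]
    rw [h3]
    have h4 : w * algebraMap T₀ T pc = 1 := hw
    linear_combination (-(algebraMap T₀ T y * IsLocalization.mk' T 1 s)) * h4
  have hNN : ∀ x y : T, π x = 0 → π y = 0 → x * y = 0 := by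
    intro x y hx hy
    obtain ⟨px, tx, hpx, rfl⟩ := hker x hx
    obtain ⟨py, ty, hpy, rfl⟩ := hker y hy
    have h0 : px * py = 0 := hK px py hpx hpy
    have := congrArg (algebraMap T₀ T) h0
    rw [map_mul, map_zero] at this
    linear_combination (tx * ty) * this
  have hQN : ∀ (d : T₀) (x : T), ψ₀ d = 0 → π x = 0 → algebraMap T₀ T d * x = 0 := by
    intro d x hd hx
    obtain ⟨px, tx, hpx, rfl⟩ := hker x hx
    have := congrArg (algebraMap T₀ T) (hK d px hd hpx)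
    rw [map_mul, map_zero] at this
    linear_combination tx * this
  have hnil : IsNilpotent (RingHom.ker (π : T →+* B)) := by
    refine ⟨2, ?_⟩
    rw [pow_two, Ideal.zero_eq_bot, eq_bot_iff, Ideal.mul_le]
    intro x hx y hy
    rw [Ideal.mem_bot]; exact hNN x y hx hy
  let σ : B →ₐ[R] T := Algebra.FormallySmooth.liftOfSurjective (AlgHom.id R _) π hπsurj hnil
  have hσ : ∀ b, π (σ b) = b := fun b =>
    Algebra.FormallySmooth.liftOfSurjective_apply _ _ _ _ b
  have hδ : ∀ x : T₀, π (algebraMap T₀ T x - σ (algebraMap A B (ψ₀ x))) = 0 := fun x => by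
    rw [map_sub, hσ, hπ, sub_self]
  refine ⟨σ.comp (IsScalarTower.toAlgHom R A B), fun x y => hNN _ _ (hδ x) (hδ y),
    fun d hd x => hQN d _ hd (hδ x)⟩

theorem taylor_loc {R T₀ A T B : Type*} [CommRing R] [CommRing T₀] [CommRing A]
    [CommRing T] [CommRing B] [Algebra R T₀] [Algebra R A] [Algebra R T] [Algebra R B]
    [Algebra T₀ T] [Algebra A B] [IsScalarTower R T₀ T] [IsScalarTower R A B]
    (ψ₀ : T₀ →ₐ[R] A) (hψ₀ : Function.Surjective ψ₀) (S : Submonoid T₀)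
    [IsLocalization S T] [IsLocalization (S.map ψ₀) B] [Algebra.FormallySmooth R B]
    (hK : ∀ a b : T₀, ψ₀ a = 0 → ψ₀ b = 0 → a * b = 0) {ι : Type*} [Fintype ι] [DecidableEq ι]
    (u₀ : MvPolynomial ι R →ₐ[R] T₀) (p : MvPolynomial ι R)
    (hp : ψ₀ (u₀ p) = 0) (hd : ∀ i, ψ₀ (u₀ (pderiv i p)) = 0) :
    algebraMap T₀ T (u₀ p) = 0 := by
  obtain ⟨σ', h1, h2⟩ := exists_section_loc (T := T) (B := B) ψ₀ hψ₀ S hK
  let u : MvPolynomial ι R →ₐ[R] T := (IsScalarTower.toAlgHom R T₀ T).comp u₀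
  let v : MvPolynomial ι R →ₐ[R] T := σ'.comp (ψ₀.comp u₀)
  have hu : ∀ x, u x = algebraMap T₀ T (u₀ x) := fun x => rfl
  have hv : ∀ x, v x = σ' (ψ₀ (u₀ x)) := fun x => rfl
  have htaylor := Groth.Agent.H8.StdEl.taylor_sq_zero u v
    (fun i j => by rw [hu, hu, hv, hv]; exact h1 _ _) p
  have hvp : v p = 0 := by rw [hv, hp, map_zero]
  rw [hvp, sub_zero] at htaylor
  rw [← hu, htaylor]
  refine Finset.sum_eq_zero fun i _ => ?_
  rw [hu, hu, hv]; exact h2 _ (hd i) _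

/-- Global key injectivity: if `A_a` is formally smooth over `R`, `u ∈ I = ker Φ` has all its
partial derivatives in `I`, then a power of (a lift of) `a` multiplies `u` into `I²`. -/
theorem exists_pow_mul_mem_sq {R A : Type u} [CommRing R] [CommRing A] [Algebra R A]
    {ι : Type*} [Fintype ι] [DecidableEq ι]
    (Φ : MvPolynomial ι R →ₐ[R] A) (hΦ : Function.Surjective Φ)
    (a' : MvPolynomial ι R) [Algebra.FormallySmooth R (Localization.Away (Φ a'))]
    (I : Ideal (MvPolynomial ι R)) (hI : ∀ x, x ∈ I ↔ Φ x = 0)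
    (u : MvPolynomial ι R) (hu : u ∈ I) (hd : ∀ i, pderiv i u ∈ I) :
    ∃ M : ℕ, a' ^ M * u ∈ I ^ 2 := by
  classical
  let ψ₀ : (MvPolynomial ι R ⧸ (I ^ 2)) →ₐ[R] A :=
    Ideal.Quotient.liftₐ (I ^ 2) Φ (fun x hx => (hI x).mp (Ideal.pow_le_self two_ne_zero hx))
  have hψ₀ : ∀ x, ψ₀ (Ideal.Quotient.mk _ x) = Φ x := fun x => rfl
  have hψ₀surj : Function.Surjective ψ₀ := fun a => by
    obtain ⟨x, rfl⟩ := hΦ a
    exact ⟨Ideal.Quotient.mk _ x, rfl⟩
  have hK : ∀ a b : MvPolynomial ι R ⧸ (I ^ 2), ψ₀ a = 0 → ψ₀ b = 0 → a * b = 0 := by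
    intro a b ha hb
    obtain ⟨a, rfl⟩ := Ideal.Quotient.mk_surjective a
    obtain ⟨b, rfl⟩ := Ideal.Quotient.mk_surjective b
    rw [← map_mul, Ideal.Quotient.eq_zero_iff_mem, pow_two]
    exact Ideal.mul_mem_mul ((hI a).mpr ha) ((hI b).mpr hb)
  let t : MvPolynomial ι R ⧸ (I ^ 2) := Ideal.Quotient.mk _ a'
  haveI : IsLocalization ((Submonoid.powers t).map ψ₀) (Localization.Away (Φ a')) := by
    rw [Submonoid.map_powers]
    exact (inferInstance : IsLocalization.Away (Φ a') (Localization.Away (Φ a')))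
  have hup := taylor_loc (T := Localization.Away t) (B := Localization.Away (Φ a')) ψ₀ hψ₀surj
    (Submonoid.powers t) hK (Ideal.Quotient.mkₐ R (I ^ 2)) u ((hI u).mp hu)
    (fun i => (hI _).mp (hd i))
  obtain ⟨c, hc⟩ := (IsLocalization.map_eq_zero_iff (Submonoid.powers t) _ _).mp hup
  obtain ⟨M, hM⟩ := c.2
  refine ⟨M, ?_⟩
  rw [← Ideal.Quotient.eq_zero_iff_mem, map_mul, map_pow]
  rw [← hM] at hc
  exact hc

end Groth.Agent.H5.Des.S31
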