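import Mathlib
import Groth.Prelude.Def_Smoothing
import Groth.Agent.Lib.Helper8.StdEl.E

set_option autoImplicit false
universe u
open MvPolynomial

namespace Groth.Agent.H5.Des.S31

section
variable {R A : Type u} [CommRing R] [CommRing A] [Algebra R A]

/-- The marked presentation obtained by permuting relations. -/
noncomputable def rowPres {n m : ℕ} (f : Fin m → MvPolynomial (Fin n) R)
    (φ : MvPolynomial (Fin n) R →ₐ[R] A) (hφ : Function.Surjective φ)
    (hker : RingHom.ker φ.toRingHom = Ideal.span (Set.range f)) (c : ℕ) (hcm : c ≤ m) (hcn : c ≤ n)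
    (σ : Equiv.Perm (Fin m)) : Smoothing.MarkedPresentation R A where
  n := n
  m := m
  c := c
  hcn := hcn
  hcm := hcm
  rel j := f (σ j)
  hom := φ
  surj := hφ
  ker_eq := by
    rw [hker]
    congr 1
    exact (σ.surjective.range_comp f).symm

/-- Criterion for strict standardness with arbitrary rows (indices in `Fin`). -/
theorem isStrictlyStandard_of_rows {n m : ℕ}
    (f : Fin m → MvPolynomial (Fin n) R) (φ : MvPolynomial (Fin n) R →ₐ[R] A)
    (hφ : Function.Surjective φ)
    (hker : RingHom.ker φ.toRingHom = Ideal.span (Set.range f)) (a : A) {c : ℕ}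
    (rows : Fin c ↪ Fin m) (hcn : c ≤ n)
    (hspan : a ∈ Ideal.span (Set.range fun cols : Fin c → Fin n =>
      φ (Smoothing.jacobianMinor f rows cols)))
    (hkill : ∀ a₁ : MvPolynomial (Fin n) R, φ a₁ = a → ∀ ℓ : Fin m,
        a₁ * f ℓ ∈ Ideal.span (Set.range (f ∘ rows)) ⊔ Ideal.span (Set.range f) ^ 2) :
    Smoothing.IsStrictlyStandard R A a := by
  classical
  have hcm : c ≤ m := by simpa using Fintype.card_le_of_embedding rows
  obtain ⟨σ, hσ⟩ := Groth.Agent.H8.StdEl.exists_perm_extending hcm rows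
  refine ⟨rowPres f φ hφ hker c hcm hcn σ, ?_, ?_⟩
  · have : (fun cols : Fin c → Fin n => φ (Smoothing.jacobianMinor (fun j => f (σ j))
        (Fin.castLE hcm) cols)) = fun cols : Fin c → Fin n =>
          φ (Smoothing.jacobianMinor f rows cols) := by
      funext cols
      congr 1
      unfold Smoothing.jacobianMinor
      congr 1
      refine Matrix.ext fun j k => ?_
      show pderiv (cols k) (f (σ (Fin.castLE hcm j))) = pderiv (cols k) (f (rows j))
      rw [hσ]
    show a ∈ Ideal.span (Set.range fun cols : Fin c → Fin n =>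
      φ (Smoothing.jacobianMinor (fun j => f (σ j)) (Fin.castLE hcm) cols))
    rw [this]; exact hspan
  · show ∀ a' : MvPolynomial (Fin n) R, φ a' = a → ∀ j : Fin m, c ≤ (j : ℕ) →
      a' * f (σ j) ∈
        Ideal.span ((fun j => f (σ j)) '' {j' : Fin m | (j' : ℕ) < c}) ⊔
          Ideal.span (Set.range fun j => f (σ j)) ^ 2
    intro a₁ ha₁ j _
    have h1 := hkill a₁ ha₁ (σ j)
    have hmono : ∀ (I₁ I₂ J₁ J₂ : Ideal (MvPolynomial (Fin n) R)), I₁ ≤ I₂ → J₁ ≤ J₂ →
        I₁ ⊔ J₁ ^ 2 ≤ I₂ ⊔ J₂ ^ 2 := fun I₁ I₂ J₁ J₂ hI hJ =>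
      sup_le_sup hI (Ideal.pow_right_mono hJ 2)
    refine hmono _ _ _ _ (Ideal.span_mono ?_) (Ideal.span_mono ?_) h1
    · rintro _ ⟨k, rfl⟩
      refine ⟨Fin.castLE hcm k, ?_, ?_⟩
      · show ((Fin.castLE hcm k : Fin m) : ℕ) < c
        simp
      · show f (σ (Fin.castLE hcm k)) = _
        rw [hσ]; rfl
    · rintro _ ⟨ℓ, rfl⟩
      exact ⟨σ.symm ℓ, by simp⟩

/-- Criterion for strict standardness with arbitrary finite index types (with the cardinality
hypothesis). -/
theorem isStrictlyStandard_of_finite_aux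
    {ι ρ σ : Type*} [Fintype ι] [Fintype ρ] [Fintype σ] [DecidableEq ι] [DecidableEq ρ]
    [DecidableEq σ]
    (rel : ρ → MvPolynomial ι R) (Φ : MvPolynomial ι R →ₐ[R] A) (hΦ : Function.Surjective Φ)
    (hker : RingHom.ker Φ.toRingHom = Ideal.span (Set.range rel))
    (rows : σ ↪ ρ) (hcard : Fintype.card σ ≤ Fintype.card ι) (a : A)
    (hspan : a ∈ Ideal.span (Set.range fun cols : σ → ι =>
      Φ (Matrix.det (Matrix.of fun j k : σ => pderiv (cols k) (rel (rows j))))))
    (hkill : ∀ a₁, Φ a₁ = a → ∀ ℓ : ρ,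
      a₁ * rel ℓ ∈ Ideal.span (Set.range (rel ∘ rows)) ⊔ Ideal.span (Set.range rel) ^ 2) :
    Smoothing.IsStrictlyStandard R A a := by
  classical
  let eι : ι ≃ Fin (Fintype.card ι) := Fintype.equivFin ι
  let eρ : ρ ≃ Fin (Fintype.card ρ) := Fintype.equivFin ρ
  let eσ : σ ≃ Fin (Fintype.card σ) := Fintype.equivFin σ
  have hrr : ∀ x : MvPolynomial ι R, rename eι.symm (rename eι x) = x := fun x => by
    rw [rename_rename, Equiv.symm_comp_self, rename_id_apply]
  have hrr' : ∀ x : MvPolynomial (Fin (Fintype.card ι)) R, rename eι (rename eι.symm x) = x :=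
    fun x => by rw [rename_rename, Equiv.self_comp_symm, rename_id_apply]
  let f : Fin (Fintype.card ρ) → MvPolynomial (Fin (Fintype.card ι)) R :=
    fun ℓ => rename eι (rel (eρ.symm ℓ))
  let φ : MvPolynomial (Fin (Fintype.card ι)) R →ₐ[R] A := Φ.comp (rename eι.symm)
  have hφ : Function.Surjective φ := fun y => by
    obtain ⟨x, rfl⟩ := hΦ y
    exact ⟨rename eι x, by show Φ (rename eι.symm (rename eι x)) = Φ x; rw [hrr]⟩
  have hkerφ : RingHom.ker φ.toRingHom = Ideal.span (Set.range f) := by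
    apply le_antisymm
    · intro x hx
      have h1 : rename eι.symm x ∈ Ideal.span (Set.range rel) := by
        rw [← hker]; exact hx
      have h2 := Ideal.mem_map_of_mem (rename (R := R) eι).toRingHom h1
      rw [Ideal.map_span] at h2
      have h3 : (rename (R := R) eι).toRingHom (rename eι.symm x) = x := hrr' x
      rw [h3] at h2
      refine Ideal.span_mono ?_ h2
      rintro _ ⟨_, ⟨ℓ, rfl⟩, rfl⟩
      exact ⟨eρ ℓ, by simp [f]⟩
    · rw [Ideal.span_le]
      rintro _ ⟨j, rfl⟩
      show Φ (rename eι.symm (rename eι (rel (eρ.symm j)))) = 0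
      rw [hrr]
      have : rel (eρ.symm j) ∈ RingHom.ker Φ.toRingHom := by
        rw [hker]; exact Ideal.subset_span ⟨_, rfl⟩
      exact this
  let rows' : Fin (Fintype.card σ) ↪ Fin (Fintype.card ρ) :=
    eσ.symm.toEmbedding.trans (rows.trans eρ.toEmbedding)
  have hminor : ∀ cols : σ → ι, Smoothing.jacobianMinor f rows' (fun k => eι (cols (eσ.symm k))) =
      rename eι (Matrix.det (Matrix.of fun j k : σ => pderiv (cols k) (rel (rows j)))) := by
    intro cols
    unfold Smoothing.jacobianMinor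
    rw [AlgHom.map_det, ← Matrix.det_submatrix_equiv_self eσ.symm]
    congr 1
    refine Matrix.ext fun j k => ?_
    show pderiv (eι (cols (eσ.symm k))) (rename eι (rel (eρ.symm (eρ (rows (eσ.symm j)))))) =
      rename eι (pderiv (cols (eσ.symm k)) (rel (rows (eσ.symm j))))
    rw [Equiv.symm_apply_apply, pderiv_rename eι.injective]
  refine isStrictlyStandard_of_rows f φ hφ hkerφ a rows' hcard ?_ ?_
  · refine Ideal.span_mono ?_ hspan
    rintro _ ⟨cols, rfl⟩
    refine ⟨fun k => eι (cols (eσ.symm k)), ?_⟩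
    show φ _ = _
    rw [hminor]
    show Φ (rename eι.symm (rename eι _)) = _
    rw [hrr]
  · intro a₁ ha₁ ℓ
    have h1 := hkill (rename eι.symm a₁) ha₁ (eρ.symm ℓ)
    have h2 := Ideal.mem_map_of_mem (rename (R := R) eι).toRingHom h1
    rw [Ideal.map_sup, Ideal.map_pow, Ideal.map_span, Ideal.map_span] at h2
    have h3 : (rename (R := R) eι).toRingHom (rename eι.symm a₁ * rel (eρ.symm ℓ)) =
        a₁ * f ℓ := by
      show rename eι (rename eι.symm a₁ * rel (eρ.symm ℓ)) = _
      rw [map_mul, hrr']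
    rw [h3] at h2
    have hmono : ∀ (I₁ I₂ J₁ J₂ : Ideal (MvPolynomial (Fin (Fintype.card ι)) R)), I₁ ≤ I₂ →
        J₁ ≤ J₂ → I₁ ⊔ J₁ ^ 2 ≤ I₂ ⊔ J₂ ^ 2 := fun I₁ I₂ J₁ J₂ hI hJ =>
      sup_le_sup hI (Ideal.pow_right_mono hJ 2)
    refine hmono _ _ _ _ (Ideal.span_mono ?_) (Ideal.span_mono ?_) h2
    · rintro _ ⟨_, ⟨k, rfl⟩, rfl⟩
      exact ⟨eσ k, by simp [f, rows']⟩
    · rintro _ ⟨_, ⟨ℓ', rfl⟩, rfl⟩
      exact ⟨eρ ℓ', by simp [f]⟩

/-- Criterion for strict standardness with arbitrary finite index types. -/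
theorem isStrictlyStandard_of_finite
    {ι ρ σ : Type*} [Fintype ι] [Fintype ρ] [Fintype σ] [DecidableEq ι] [DecidableEq ρ]
    [DecidableEq σ]
    (rel : ρ → MvPolynomial ι R) (Φ : MvPolynomial ι R →ₐ[R] A) (hΦ : Function.Surjective Φ)
    (hker : RingHom.ker Φ.toRingHom = Ideal.span (Set.range rel))
    (rows : σ ↪ ρ) (a : A)
    (hspan : a ∈ Ideal.span (Set.range fun cols : σ → ι =>
      Φ (Matrix.det (Matrix.of fun j k : σ => pderiv (cols k) (rel (rows j))))))
    (hkill : ∀ a₁, Φ a₁ = a → ∀ ℓ : ρ,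
      a₁ * rel ℓ ∈ Ideal.span (Set.range (rel ∘ rows)) ⊔ Ideal.span (Set.range rel) ^ 2) :
    Smoothing.IsStrictlyStandard R A a := by
  classical
  by_cases hcard : Fintype.card σ ≤ Fintype.card ι
  · exact isStrictlyStandard_of_finite_aux rel Φ hΦ hker rows hcard a hspan hkill
  · -- all minors vanish, so `a = 0`
    have ha0 : a = 0 := by
      have : Ideal.span (Set.range fun cols : σ → ι =>
          Φ (Matrix.det (Matrix.of fun j k : σ => pderiv (cols k) (rel (rows j))))) ≤ ⊥ := by
        rw [Ideal.span_le]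
        rintro _ ⟨cols, rfl⟩
        have hni : ¬ Function.Injective cols := fun hinj =>
          hcard (Fintype.card_le_of_injective cols hinj)
        rw [Function.Injective] at hni
        push Not at hni
        obtain ⟨i, j, hij, hne⟩ := hni
        have : Matrix.det (Matrix.of fun j k : σ => pderiv (cols k) (rel (rows j))) = 0 := by
          refine Matrix.det_zero_of_column_eq hne fun k => ?_
          simp only [Matrix.of_apply, hij]
        show Φ _ = 0
        rw [this, map_zero]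
      exact this hspan
    subst ha0
    refine isStrictlyStandard_of_finite_aux (σ := Fin 0) rel Φ hΦ hker
      (Function.Embedding.ofIsEmpty) (by simp) 0 (Ideal.zero_mem _) ?_
    intro a₁ ha₁ ℓ
    refine Ideal.mem_sup_right ?_
    rw [pow_two]
    refine Ideal.mul_mem_mul ?_ (Ideal.subset_span ⟨ℓ, rfl⟩)
    rw [← hker]; exact ha₁

end

end Groth.Agent.H5.Des.S31
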