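import Mathlib
import Groth.Prelude.Def_Smoothing
import Groth.Agent.Lib.Helper5.Des.S31A

set_option autoImplicit false
universe u
open MvPolynomial TensorProduct

namespace Groth.Agent.H5.Des.S31

section Loc
variable {A Λ : Type*} [CommRing A] [CommRing Λ] [Algebra A Λ] (a : A) [IsLocalization.Away a Λ]

include a in
theorem exists_pow_mul_mem_of_map_mem (I : Ideal A) (x : A)
    (h : algebraMap A Λ x ∈ I.map (algebraMap A Λ)) : ∃ M : ℕ, a ^ M * x ∈ I := by
  obtain ⟨⟨y, s⟩, hy⟩ := (IsLocalization.mem_map_algebraMap_iff (Submonoid.powers a) Λ).mp h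
  obtain ⟨j, hj⟩ := s.2
  simp only at hy
  rw [← map_mul] at hy
  obtain ⟨c, hc⟩ := (IsLocalization.eq_iff_exists (Submonoid.powers a) Λ).mp hy
  obtain ⟨i, hi⟩ := c.2
  refine ⟨i + j, ?_⟩
  have : a ^ (i + j) * x = (c : A) * (y : A) := by
    rw [← hc, ← hi, ← hj]; ring
  rw [this]
  exact I.mul_mem_left _ y.2

include a in
theorem exists_clear {τ : Type*} [Finite τ] (x : τ → Λ) :
    ∃ N : ℕ, ∀ t, ∃ y : A, algebraMap A Λ y = algebraMap A Λ (a ^ N) * x t := by
  obtain ⟨b, hb⟩ := IsLocalization.exist_integer_multiples_of_finite (Submonoid.powers a) x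
  obtain ⟨N, hN⟩ := b.2
  refine ⟨N, fun t => ?_⟩
  obtain ⟨y, hy⟩ := hb t
  refine ⟨y, ?_⟩
  have hN' : a ^ N = (b : A) := hN
  rw [hy, hN', Algebra.smul_def]

include a in
theorem exists_pow_mul_eq_zero {τ : Type*} [Finite τ] (y : τ → A)
    (hy : ∀ t, algebraMap A Λ (y t) = 0) : ∃ M : ℕ, ∀ t, a ^ M * y t = 0 := by
  classical
  haveI := Fintype.ofFinite τ
  have h1 : ∀ t, ∃ M : ℕ, a ^ M * y t = 0 := fun t => by
    obtain ⟨c, hc⟩ := (IsLocalization.map_eq_zero_iff (Submonoid.powers a) Λ _).mp (hy t)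
    obtain ⟨M, hM⟩ := c.2
    have hM' : a ^ M = (c : A) := hM
    exact ⟨M, by rw [hM']; exact hc⟩
  choose M hM using h1
  refine ⟨∑ t, M t, fun t => ?_⟩
  have hle : M t ≤ ∑ t, M t := Finset.single_le_sum (fun _ _ => Nat.zero_le _) (Finset.mem_univ t)
  obtain ⟨d, hd⟩ := Nat.exists_eq_add_of_le hle
  rw [hd, pow_add, mul_right_comm, hM, zero_mul]

end Loc

section Ext
variable {R A : Type*} [CommRing R] [CommRing A] [Algebra R A] {n m : ℕ} (q : ℕ)
  (φ : MvPolynomial (Fin n) R →ₐ[R] A) (f : Fin m → MvPolynomial (Fin n) R)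

/-- the extended presentation map: the new variables go to zero -/
noncomputable def extHom : MvPolynomial (Fin n ⊕ Fin q) R →ₐ[R] A :=
  aeval (Sum.elim (fun i => φ (X i)) (fun _ => 0))

/-- the extended relations -/
noncomputable def extRel : Fin m ⊕ Fin q → MvPolynomial (Fin n ⊕ Fin q) R :=
  Sum.elim (fun ℓ => rename Sum.inl (f ℓ)) (fun t => X (Sum.inr t))

theorem extHom_inl (i : Fin n) : extHom q φ (X (Sum.inl i)) = φ (X i) := by
  simp [extHom]

theorem extHom_inr (t : Fin q) : extHom q φ (X (Sum.inr t)) = 0 := by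
  simp [extHom]

theorem extHom_rename (p : MvPolynomial (Fin n) R) : extHom q φ (rename Sum.inl p) = φ p := by
  have : (extHom q φ).comp (rename Sum.inl) = φ := by
    apply MvPolynomial.algHom_ext
    intro i
    simp [extHom]
  exact DFunLike.congr_fun this p

theorem extHom_surjective (hφ : Function.Surjective φ) : Function.Surjective (extHom q φ) := by
  intro y
  obtain ⟨x, rfl⟩ := hφ y
  exact ⟨rename Sum.inl x, extHom_rename q φ x⟩

theorem ker_extHom (hker : RingHom.ker φ.toRingHom = Ideal.span (Set.range f)) :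
    RingHom.ker (extHom q φ).toRingHom = Ideal.span (Set.range (extRel q f)) := by
  classical
  apply le_antisymm
  · intro x hx
    -- the retraction killing the new variables
    let r : MvPolynomial (Fin n ⊕ Fin q) R →ₐ[R] MvPolynomial (Fin n) R :=
      aeval (Sum.elim (fun i => X i) (fun _ => 0))
    let J := Ideal.span (Set.range (extRel q f))
    have h1 : (Ideal.Quotient.mkₐ R J).comp ((rename Sum.inl).comp r) = Ideal.Quotient.mkₐ R J := by
      apply MvPolynomial.algHom_ext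
      rintro (i | t)
      · simp [r]
      · simp only [AlgHom.coe_comp, Function.comp_apply, aeval_X, Sum.elim_inr, map_zero, r]
        symm
        rw [Ideal.Quotient.mkₐ_eq_mk, Ideal.Quotient.eq_zero_iff_mem]
        exact Ideal.subset_span ⟨Sum.inr t, rfl⟩
    have h2 : φ (r x) = 0 := by
      have : φ.comp r = extHom q φ := by
        apply MvPolynomial.algHom_ext
        rintro (i | t) <;> simp [r, extHom]
      rw [← AlgHom.comp_apply, this]; exact hx
    have h3 : r x ∈ Ideal.span (Set.range f) := by rw [← hker]; exact h2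
    have h4 : rename Sum.inl (r x) ∈ J := by
      have := Ideal.mem_map_of_mem (rename (R := R) (Sum.inl : Fin n → Fin n ⊕ Fin q)).toRingHom h3
      rw [Ideal.map_span] at this
      refine Ideal.span_mono ?_ this
      rintro _ ⟨_, ⟨ℓ, rfl⟩, rfl⟩
      exact ⟨Sum.inl ℓ, rfl⟩
    have h5 := DFunLike.congr_fun h1 x
    simp only [AlgHom.coe_comp, Function.comp_apply, Ideal.Quotient.mkₐ_eq_mk] at h5
    rw [(Ideal.Quotient.eq_zero_iff_mem).mpr h4] at h5
    exact Ideal.Quotient.eq_zero_iff_mem.mp h5.symm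
  · rw [Ideal.span_le]
    rintro _ ⟨(ℓ | t), rfl⟩
    · show extHom q φ (rename Sum.inl (f ℓ)) = 0
      rw [extHom_rename]
      have : f ℓ ∈ RingHom.ker φ.toRingHom := by rw [hker]; exact Ideal.subset_span ⟨ℓ, rfl⟩
      exact this
    · exact extHom_inr q φ t

end Ext

section Grad
variable {R A Λ : Type*} [CommRing R] [CommRing A] [CommRing Λ] [Algebra R A] [Algebra A Λ]
  {ι : Type*} [Fintype ι] [DecidableEq ι] (Φ : MvPolynomial ι R →ₐ[R] A)

omit [Fintype ι] [DecidableEq ι] in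
theorem grad_add (x y : MvPolynomial ι R) :
    grad (Λ := Λ) Φ (x + y) = grad Φ x + grad Φ y := by
  ext i; simp [grad]

omit [Fintype ι] [DecidableEq ι] in
theorem grad_sub (x y : MvPolynomial ι R) :
    grad (Λ := Λ) Φ (x - y) = grad Φ x - grad Φ y := by
  ext i; simp [grad]

omit [Fintype ι] [DecidableEq ι] in
theorem grad_zero : grad (Λ := Λ) Φ 0 = 0 := by
  ext i; simp [grad]

omit [Fintype ι] [DecidableEq ι] in
theorem grad_sum {τ : Type*} (s : Finset τ) (x : τ → MvPolynomial ι R) :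
    grad (Λ := Λ) Φ (∑ t ∈ s, x t) = ∑ t ∈ s, grad Φ (x t) := by
  classical
  induction s using Finset.induction_on with
  | empty => simp [grad_zero]
  | insert t s ht ih => rw [Finset.sum_insert ht, Finset.sum_insert ht, grad_add, ih]

omit [Fintype ι] [DecidableEq ι] in
theorem grad_mul_of_mem (x y : MvPolynomial ι R) (hy : Φ y = 0) :
    grad (Λ := Λ) Φ (x * y) = algebraMap A Λ (Φ x) • grad Φ y := by
  ext i
  simp only [grad, Derivation.leibniz, smul_eq_mul, map_add, map_mul, hy, zero_mul, map_zero,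
    add_zero, Pi.smul_apply]

omit [Fintype ι] [DecidableEq ι] in
theorem grad_comb {τ : Type*} (s : Finset τ) (μ g : τ → MvPolynomial ι R)
    (hg : ∀ t, Φ (g t) = 0) :
    grad (Λ := Λ) Φ (∑ t ∈ s, μ t * g t) = ∑ t ∈ s, algebraMap A Λ (Φ (μ t)) • grad Φ (g t) := by
  rw [grad_sum]
  exact Finset.sum_congr rfl fun t _ => grad_mul_of_mem Φ _ _ (hg t)

end Grad

section LinAlg
variable {Λ : Type*} [CommRing Λ] {n p q : ℕ} {Ω' Ω : Type*} [AddCommGroup Ω'] [Module Λ Ω']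
  [AddCommGroup Ω] [Module Λ Ω]

theorem exists_basis_ker (π : (Fin n ⊕ Fin q → Λ) →ₗ[Λ] Ω') (hπ : Function.Surjective π)
    (hF : ∀ x, π x = π (Sum.elim (x ∘ Sum.inl) 0))
    (θ : Ω' ≃ₗ[Λ] Ω) [Module.Projective Λ Ω]
    (e : (Ω × (Fin p → Λ)) ≃ₗ[Λ] (Fin q → Λ)) :
    ∃ (β : (Fin n ⊕ Fin p → Λ) →ₗ[Λ] (Fin n ⊕ Fin q → Λ))
      (H : (Fin n ⊕ Fin q → Λ) →ₗ[Λ] (Fin n ⊕ Fin p → Λ)),
      (∀ x, H (β x) = x) ∧ (∀ x, π (β x) = 0) ∧ ∀ y, π y = 0 → ∃ x, β x = y := by
  classical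
  let Sσ := LinearEquiv.sumArrowLequivProdArrow (Fin n) (Fin p) Λ Λ
  let Sι := LinearEquiv.sumArrowLequivProdArrow (Fin n) (Fin q) Λ Λ
  -- `π₀ : Λ^n → Ω`
  let π₀ : (Fin n → Λ) →ₗ[Λ] Ω :=
    θ.toLinearMap ∘ₗ π ∘ₗ Sι.symm.toLinearMap ∘ₗ LinearMap.inl Λ (Fin n → Λ) (Fin q → Λ)
  have hπ₀ : ∀ v, π₀ v = θ (π (Sum.elim v 0)) := fun v => rfl
  have hπ₀surj : Function.Surjective π₀ := by
    intro ω
    obtain ⟨x, hx⟩ := hπ (θ.symm ω)
    refine ⟨x ∘ Sum.inl, ?_⟩
    rw [hπ₀, ← hF, hx, LinearEquiv.apply_symm_apply]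
  obtain ⟨s, hs⟩ := Module.projective_lifting_property π₀ LinearMap.id hπ₀surj
  have hs' : ∀ ω, π₀ (s ω) = ω := fun ω => LinearMap.congr_fun hs ω
  -- the maps on products
  let β₀ : (Fin n → Λ) × (Fin p → Λ) →ₗ[Λ] (Fin n → Λ) × (Fin q → Λ) :=
    LinearMap.prod
      (LinearMap.fst _ _ _ - s ∘ₗ π₀ ∘ₗ LinearMap.fst _ _ _)
      (e.toLinearMap ∘ₗ LinearMap.prodMap π₀ LinearMap.id)
  have hβ₀ : ∀ v w, β₀ (v, w) = (v - s (π₀ v), e (π₀ v, w)) := fun v w => rfl
  let H₀ : (Fin n → Λ) × (Fin q → Λ) →ₗ[Λ] (Fin n → Λ) × (Fin p → Λ) :=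
    LinearMap.prod
      (LinearMap.fst _ _ _ - s ∘ₗ π₀ ∘ₗ LinearMap.fst _ _ _ +
        s ∘ₗ LinearMap.fst _ _ _ ∘ₗ e.symm.toLinearMap ∘ₗ LinearMap.snd _ _ _)
      (LinearMap.snd _ _ _ ∘ₗ e.symm.toLinearMap ∘ₗ LinearMap.snd _ _ _)
  have hH₀ : ∀ v w, H₀ (v, w) = (v - s (π₀ v) + s (e.symm w).1, (e.symm w).2) := fun v w => rfl
  refine ⟨Sι.symm.toLinearMap ∘ₗ β₀ ∘ₗ Sσ.toLinearMap, Sσ.symm.toLinearMap ∘ₗ H₀ ∘ₗ Sι.toLinearMap,
    ?_, ?_, ?_⟩
  · intro x
    simp only [LinearMap.coe_comp, LinearEquiv.coe_coe, Function.comp_apply,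
      LinearEquiv.apply_symm_apply]
    rw [LinearEquiv.symm_apply_eq]
    obtain ⟨v, w⟩ := Sσ x
    rw [hβ₀, hH₀, LinearEquiv.symm_apply_apply]
    simp only [map_sub, hs', sub_self, sub_zero, map_zero, sub_add_cancel]
  · intro x
    simp only [LinearMap.coe_comp, LinearEquiv.coe_coe, Function.comp_apply]
    obtain ⟨v, w⟩ := Sσ x
    rw [hβ₀]
    have h1 : π (Sι.symm (v - s (π₀ v), e (π₀ v, w))) =
        π (Sum.elim (v - s (π₀ v)) 0) := by
      rw [hF]
      rfl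
    rw [h1]
    apply θ.injective
    rw [← hπ₀, map_sub, hs', sub_self, map_zero]
  · intro y hy
    have h1 : π₀ (Sι y).1 = 0 := by
      rw [hπ₀]
      have : (Sι y).1 = y ∘ Sum.inl := rfl
      rw [this, ← hF, hy, map_zero]
    refine ⟨Sσ.symm ((Sι y).1 + s (e.symm (Sι y).2).1, (e.symm (Sι y).2).2), ?_⟩
    simp only [LinearMap.coe_comp, LinearEquiv.coe_coe, Function.comp_apply,
      LinearEquiv.apply_symm_apply]
    rw [LinearEquiv.symm_apply_eq, hβ₀]
    have h2 : π₀ ((Sι y).1 + s (e.symm (Sι y).2).1) = (e.symm (Sι y).2).1 := by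
      rw [map_add, h1, hs', zero_add]
    rw [h2]
    simp only [Prod.mk.eta, LinearEquiv.apply_symm_apply, add_sub_cancel_right]

end LinAlg

end Groth.Agent.H5.Des.S31
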