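import Mathlib
import Groth.Prelude.Def_Smoothing
import Groth.Agent.Lib.Helper5.Des.S31A
import Groth.Agent.Lib.Helper5.Des.S31B
import Groth.Agent.Lib.Helper5.Des.S31C
import Groth.Agent.Lib.Helper5.Des.S31D

set_option autoImplicit false
universe u
open MvPolynomial TensorProduct

namespace Groth.Agent.H5.Des.S31

section Core
variable {R A : Type u} [CommRing R] [CommRing A] [Algebra R A]

/-- generic identity used in the kill-tail step -/
theorem ring_id {P : Type*} [CommRing P] (t g S : P) (M₂ M₁ N : ℕ) :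
    t ^ (M₂ + M₁ + N) * g = t ^ M₂ * (t ^ M₁ * (t ^ N * g - S)) + t ^ (M₂ + M₁) * S := by
  ring

theorem core {ι ρ σ : Type*} [Fintype ι] [Fintype ρ] [Fintype σ] [DecidableEq ι]
    [DecidableEq ρ] [DecidableEq σ]
    (Φ : MvPolynomial ι R →ₐ[R] A) (hΦ : Function.Surjective Φ) (g : ρ → MvPolynomial ι R)
    (hker : RingHom.ker Φ.toRingHom = Ideal.span (Set.range g)) (a : A)
    [Algebra.FormallySmooth R (Localization.Away a)]
    (β : (σ → Localization.Away a) →ₗ[Localization.Away a] (ι → Localization.Away a))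
    (H : (ι → Localization.Away a) →ₗ[Localization.Away a] (σ → Localization.Away a))
    (hHβ : ∀ x, H (β x) = x)
    (hβ : ∀ x, β x ∈ Submodule.span (Localization.Away a)
      (Set.range fun ℓ => grad (Λ := Localization.Away a) Φ (g ℓ)))
    (hg : ∀ ℓ, ∃ x, β x = grad (Λ := Localization.Away a) Φ (g ℓ)) :
    ∃ e₀ : ℕ, ∀ n : ℕ, e₀ ≤ n → Smoothing.IsStrictlyStandard R A (a ^ n) := by
  classical
  have hI : ∀ x, x ∈ Ideal.span (Set.range g) ↔ Φ x = 0 := by
    intro x; rw [← hker]; exact Iff.rfl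
  have hgz : ∀ ℓ, Φ (g ℓ) = 0 := fun ℓ => (hI _).mp (Ideal.subset_span ⟨ℓ, rfl⟩)
  obtain ⟨a', ha'⟩ := hΦ a
  -- the standard basis vectors
  let ev : σ → (σ → Localization.Away a) := fun k j => if k = j then 1 else 0
  let b : σ → (ι → Localization.Away a) := fun k => β (ev k)
  have hβsum : ∀ x : σ → Localization.Away a, β x = ∑ k, x k • b k := fun x =>
    LinearMap.pi_apply_eq_sum_univ β x
  -- (4) the new leading relations
  have h4 : ∀ k : σ, ∃ c : ρ → Localization.Away a,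
      ∑ ℓ, c ℓ • grad (Λ := Localization.Away a) Φ (g ℓ) = b k := fun k =>
    (Submodule.mem_span_range_iff_exists_fun (Localization.Away a)).mp (hβ _)
  choose lam hlam using h4
  obtain ⟨N, hN⟩ := exists_clear (Λ := Localization.Away a) a (fun kl : σ × ρ => lam kl.1 kl.2)
  choose μ hμ using hN
  choose μ' hμ' using fun kl => hΦ (μ kl)
  let h : σ → MvPolynomial ι R := fun k => ∑ ℓ, μ' (k, ℓ) * g ℓ
  have hhmem : ∀ k, h k ∈ Ideal.span (Set.range g) := fun k =>
    Ideal.sum_mem _ fun ℓ _ => Ideal.mul_mem_left _ _ (Ideal.subset_span ⟨ℓ, rfl⟩)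
  have hhz : ∀ k, Φ (h k) = 0 := fun k => (hI _).mp (hhmem k)
  have hgradh : ∀ k, grad (Λ := Localization.Away a) Φ (h k) =
      algebraMap A (Localization.Away a) (a ^ N) • b k := by
    intro k
    rw [grad_comb Φ _ _ _ hgz, ← hlam k, Finset.smul_sum]
    refine Finset.sum_congr rfl fun ℓ _ => ?_
    rw [hμ', hμ, mul_smul]
  -- (5) the minors
  have h5 : ∃ E₁ : ℕ, a ^ E₁ ∈ Ideal.span (Set.range fun cols : σ → ι =>
      Φ (Matrix.det (Matrix.of fun j k : σ => pderiv (cols k) (h j)))) := by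
    let Jb : Matrix σ ι (Localization.Away a) :=
      Matrix.of fun k i => grad (Λ := Localization.Away a) Φ (h k) i
    let Hm : Matrix ι σ (Localization.Away a) :=
      Matrix.of fun i k => H (fun j => if i = j then 1 else 0) k
    have hmul : Jb * Hm = algebraMap A (Localization.Away a) (a ^ N) • (1 : Matrix σ σ _) := by
      refine Matrix.ext fun k k' => ?_
      have h1 : H (grad (Λ := Localization.Away a) Φ (h k)) =
          ∑ i, grad (Λ := Localization.Away a) Φ (h k) i • H (fun j => if i = j then 1 else 0) :=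
        LinearMap.pi_apply_eq_sum_univ H _
      have h2 : H (grad (Λ := Localization.Away a) Φ (h k)) =
          algebraMap A (Localization.Away a) (a ^ N) • ev k := by
        rw [hgradh, map_smul, hHβ]
      have h3 := congrFun (h1.symm.trans h2) k'
      rw [Matrix.mul_apply]
      simp only [Finset.sum_apply, Pi.smul_apply, smul_eq_mul] at h3
      rw [Matrix.smul_apply, smul_eq_mul, Matrix.one_apply]
      exact h3
    have hdet := det_mul_eq_sum' Jb Hm
    rw [hmul, Matrix.det_smul, Matrix.det_one, mul_one] at hdet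
    have hmem : algebraMap A (Localization.Away a) ((a ^ N) ^ Fintype.card σ) ∈
        Ideal.map (algebraMap A (Localization.Away a)) (Ideal.span (Set.range fun cols : σ → ι =>
          Φ (Matrix.det (Matrix.of fun j k : σ => pderiv (cols k) (h j))))) := by
      rw [map_pow, hdet]
      refine Ideal.sum_mem _ fun κ _ => Ideal.mul_mem_left _ _ ?_
      have : (Jb.submatrix id κ).det = algebraMap A (Localization.Away a)
          (Φ (Matrix.det (Matrix.of fun j k : σ => pderiv (κ k) (h j)))) := by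
        have := RingHom.map_det ((algebraMap A (Localization.Away a)).comp (Φ : _ →+* A))
          (Matrix.of fun j k : σ => pderiv (κ k) (h j))
        rw [RingHom.comp_apply] at this
        rw [RingHom.coe_coe] at this
        rw [this]
        rfl
      rw [this]
      exact Ideal.mem_map_of_mem _ (Ideal.subset_span ⟨κ, rfl⟩)
    obtain ⟨M, hM⟩ := exists_pow_mul_mem_of_map_mem (Λ := Localization.Away a) a _ _ hmem
    refine ⟨M + N * Fintype.card σ, ?_⟩
    rw [pow_add, pow_mul]; exact hM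
  obtain ⟨E₁, hE₁⟩ := h5
  -- (6) killing the tail
  choose cf hcf using hg
  obtain ⟨N', hN'⟩ := exists_clear (Λ := Localization.Away a) a (fun lk : ρ × σ => cf lk.1 lk.2)
  choose ν hν using hN'
  choose ν' hν' using fun lk => hΦ (ν lk)
  let u : ρ → MvPolynomial ι R := fun ℓ => a' ^ (N + N') * g ℓ - ∑ k, ν' (ℓ, k) * h k
  have humem : ∀ ℓ, u ℓ ∈ Ideal.span (Set.range g) := fun ℓ =>
    Ideal.sub_mem _ (Ideal.mul_mem_left _ _ (Ideal.subset_span ⟨ℓ, rfl⟩))
      (Ideal.sum_mem _ fun k _ => Ideal.mul_mem_left _ _ (hhmem k))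
  have hgradu : ∀ ℓ, grad (Λ := Localization.Away a) Φ (u ℓ) = 0 := by
    intro ℓ
    rw [grad_sub, grad_mul_of_mem Φ _ _ (hgz ℓ), grad_comb Φ _ _ _ hhz, ← hcf ℓ, hβsum,
      Finset.smul_sum, sub_eq_zero]
    refine Finset.sum_congr rfl fun k _ => ?_
    rw [hν', hν, hgradh, smul_smul, smul_smul, map_pow, ha', map_pow, map_pow, map_pow]
    congr 1
    ring
  have hd0 : ∀ li : ρ × ι, algebraMap A (Localization.Away a) (Φ (pderiv li.2 (u li.1))) = 0 :=
    fun li => congrFun (hgradu li.1) li.2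
  obtain ⟨M₁, hM₁⟩ := exists_pow_mul_eq_zero (Λ := Localization.Away a) a
    (fun li : ρ × ι => Φ (pderiv li.2 (u li.1))) hd0
  let u' : ρ → MvPolynomial ι R := fun ℓ => a' ^ M₁ * u ℓ
  have hu'mem : ∀ ℓ, u' ℓ ∈ Ideal.span (Set.range g) := fun ℓ => Ideal.mul_mem_left _ _ (humem ℓ)
  have hu'd : ∀ ℓ i, pderiv i (u' ℓ) ∈ Ideal.span (Set.range g) := by
    intro ℓ i
    rw [hI]
    show Φ (pderiv i (a' ^ M₁ * u ℓ)) = 0
    rw [Derivation.leibniz, map_add, smul_eq_mul, smul_eq_mul, map_mul, map_mul, map_pow, ha',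
      hM₁ (ℓ, i), (hI _).mp (humem ℓ), zero_mul, add_zero]
  haveI : Algebra.FormallySmooth R (Localization.Away (Φ a')) := by
    rw [ha']; infer_instance
  have h6 : ∀ ℓ, ∃ M : ℕ, a' ^ M * u' ℓ ∈ Ideal.span (Set.range g) ^ 2 := fun ℓ =>
    exists_pow_mul_mem_sq Φ hΦ a' _ hI (u' ℓ) (hu'mem ℓ) (hu'd ℓ)
  choose M₂ hM₂ using h6
  have hM₂' : ∀ ℓ, a' ^ (∑ ℓ, M₂ ℓ) * u' ℓ ∈ Ideal.span (Set.range g) ^ 2 := by
    intro ℓ
    have hle : M₂ ℓ ≤ ∑ ℓ, M₂ ℓ :=
      Finset.single_le_sum (fun _ _ => Nat.zero_le _) (Finset.mem_univ ℓ)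
    obtain ⟨d, hd⟩ := Nat.exists_eq_add_of_le hle
    rw [hd, pow_add, mul_right_comm]
    exact Ideal.mul_mem_right _ _ (hM₂ ℓ)
  have hE₀ : ∀ ℓ, a' ^ ((∑ ℓ, M₂ ℓ) + M₁ + (N + N')) * g ℓ ∈
      Ideal.span (Set.range h) ⊔ Ideal.span (Set.range g) ^ 2 := by
    intro ℓ
    rw [ring_id a' (g ℓ) (∑ k, ν' (ℓ, k) * h k)]
    refine Ideal.add_mem _ (Ideal.mem_sup_right (hM₂' ℓ)) (Ideal.mem_sup_left ?_)
    exact Ideal.mul_mem_left _ _ (Ideal.sum_mem _ fun k _ =>
      Ideal.mul_mem_left _ _ (Ideal.subset_span ⟨k, rfl⟩))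
  -- (7) conclusion
  obtain ⟨E₀, hE₀def⟩ : ∃ E₀ : ℕ, E₀ = (∑ ℓ, M₂ ℓ) + M₁ + (N + N') := ⟨_, rfl⟩
  rw [← hE₀def] at hE₀
  have hrange : Ideal.span (Set.range (Sum.elim h g)) = Ideal.span (Set.range g) := by
    rw [Set.Sum.elim_range, Ideal.span_union, sup_eq_right, Ideal.span_le]
    rintro _ ⟨k, rfl⟩
    exact hhmem k
  have hSS : Smoothing.IsStrictlyStandard R A (a ^ (E₁ + E₀)) := by
    refine isStrictlyStandard_of_finite (Sum.elim h g) Φ hΦ (hker.trans hrange.symm)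
      (Function.Embedding.inl : σ ↪ σ ⊕ ρ) (a ^ (E₁ + E₀)) ?_ ?_
    · rw [pow_add]
      exact Ideal.mul_mem_right _ _ hE₁
    · intro a₁ ha₁ idx
      rw [hrange]
      have hsub : Ideal.span (Set.range h) ≤
          Ideal.span (Set.range (Sum.elim h g ∘ (Function.Embedding.inl : σ ↪ σ ⊕ ρ))) := by
        refine Ideal.span_mono ?_
        rintro _ ⟨k, rfl⟩
        exact ⟨k, rfl⟩
      rcases idx with k | ℓ
      · exact Ideal.mem_sup_left (Ideal.mul_mem_left _ _ (hsub (Ideal.subset_span ⟨k, rfl⟩)))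
      · show a₁ * g ℓ ∈ _
        have h1 : a₁ * g ℓ = (a₁ - a' ^ (E₁ + E₀)) * g ℓ + a' ^ E₁ * (a' ^ E₀ * g ℓ) := by ring
        rw [h1]
        refine Ideal.add_mem _ (Ideal.mem_sup_right ?_) ?_
        · rw [pow_two]
          refine Ideal.mul_mem_mul ?_ (Ideal.subset_span ⟨ℓ, rfl⟩)
          rw [hI, map_sub, ha₁, map_pow, ha', sub_self]
        · exact Ideal.mul_mem_left _ _ (sup_le_sup_right hsub _ (hE₀ ℓ))
  obtain ⟨P, hspanP, hkillP⟩ := hSS
  refine ⟨E₁ + E₀, fun n hn => ?_⟩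
  obtain ⟨d, rfl⟩ := Nat.exists_eq_add_of_le hn
  refine ⟨P, ?_, ?_⟩
  · rw [pow_add]; exact Ideal.mul_mem_right _ _ hspanP
  · rw [pow_add]; exact Groth.Agent.H8.StdEl.killsTail_mul P _ _ hkillP

end Core

end Groth.Agent.H5.Des.S31
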