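import Mathlib
import Groth.Prelude.Def_Smoothing
import Groth.Agent.Lib.Helper5.Des.S31E

set_option autoImplicit false
universe u
open MvPolynomial TensorProduct

namespace Groth.Agent.H5.Des.S31

theorem main2031 {R A : Type u} [CommRing R] [CommRing A]
    [Algebra R A] [Algebra.FinitePresentation R A] (a : A) [Algebra.Smooth R (Localization.Away a)]
    (p q : ℕ) (e : (Ω[Localization.Away a⁄R] × (Fin p → Localization.Away a)) ≃ₗ[Localization.Away a]
      (Fin q → Localization.Away a)) :
    ∃ e₀ : ℕ, ∀ n : ℕ, e₀ ≤ n → Smoothing.IsStrictlyStandard R A (a ^ n) := by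
  classical
  obtain ⟨n, φ, hφ, hfg⟩ := Algebra.FinitePresentation.out (R := R) (A := A)
  obtain ⟨m, f, hf⟩ := Submodule.fg_iff_exists_fin_generating_family.mp hfg
  have hker : RingHom.ker φ.toRingHom = Ideal.span (Set.range f) := hf.symm
  have hΦ := extHom_surjective q φ hφ
  have hkerΦ := ker_extHom q φ f hker
  haveI : Algebra.FormallyEtale A (Localization.Away a) :=
    Algebra.FormallyEtale.of_isLocalization (Submonoid.powers a)
  let θ := KaehlerDifferential.tensorKaehlerEquivOfFormallyEtale R A (Localization.Away a)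
  have hπ := piMap_surjective (Λ := Localization.Away a) (extHom q φ) hΦ
  have hF : ∀ x, piMap (Λ := Localization.Away a) (extHom q φ) x =
      piMap (Λ := Localization.Away a) (extHom q φ) (Sum.elim (x ∘ Sum.inl) 0) := by
    intro x
    rw [piMap_apply, piMap_apply, Fintype.sum_sum_type, Fintype.sum_sum_type]
    simp [extHom_inr]
  obtain ⟨β, H, hHβ, hβ0, hβsurj⟩ :=
    exists_basis_ker (piMap (Λ := Localization.Away a) (extHom q φ)) hπ hF θ e
  have hkπ := ker_piMap (Λ := Localization.Away a) (extHom q φ) hΦ (extRel q f) hkerΦ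
  refine core (extHom q φ) hΦ (extRel q f) hkerΦ a β H hHβ ?_ ?_
  · intro x
    rw [← hkπ]
    exact hβ0 x
  · intro ℓ
    apply hβsurj
    have : grad (Λ := Localization.Away a) (extHom q φ) (extRel q f ℓ) ∈
        LinearMap.ker (piMap (Λ := Localization.Away a) (extHom q φ)) := by
      rw [hkπ]; exact Submodule.subset_span ⟨ℓ, rfl⟩
    exact this

end Groth.Agent.H5.Des.S31
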