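import Mathlib

/-!
# Desingularization lemma (Stacks 07CQ), part W1: generic algebra lemmas.
-/

set_option autoImplicit false
universe u

namespace Groth.Agent.H5.Des

open Matrix in
/-- A scaled right inverse built from adjugates of the maximal minors. -/
theorem exists_right_inverse_scaled {K : Type*} [CommRing K] {c n : ℕ}
    (M : Matrix (Fin c) (Fin n) K) (rI : (Fin c → Fin n) → K) :
    ∃ S : Matrix (Fin n) (Fin c) K,
      M * S = (∑ cols : Fin c → Fin n, rI cols * (M.submatrix id cols).det) •
        (1 : Matrix (Fin c) (Fin c) K) := by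
  classical
  let E : (Fin c → Fin n) → Matrix (Fin n) (Fin c) K :=
    fun cols => Matrix.of fun i l => if cols l = i then 1 else 0
  have hE : ∀ cols, M * E cols = M.submatrix id cols := by
    intro cols
    refine Matrix.ext fun j l => ?_
    simp only [Matrix.mul_apply, E, Matrix.of_apply, Matrix.submatrix_apply, id_eq, mul_ite,
      mul_one, mul_zero, Finset.sum_ite_eq, Finset.mem_univ, if_true]
  refine ⟨∑ cols : Fin c → Fin n, rI cols • (E cols * (M.submatrix id cols).adjugate), ?_⟩
  rw [Matrix.mul_sum, Finset.sum_smul]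
  refine Finset.sum_congr rfl fun cols _ => ?_
  rw [Matrix.mul_smul, ← Matrix.mul_assoc, hE, Matrix.mul_adjugate, smul_smul]

/-- If `x` kills all differences of entries, it kills the difference of determinants. -/
theorem mul_det_eq_of_mul_sub_eq_zero {K : Type*} [CommRing K] {c : ℕ}
    (a b : Matrix (Fin c) (Fin c) K) (x : K) (h : ∀ k l, x * (a k l - b k l) = 0) :
    x * a.det = x * b.det := by
  let J : Ideal K := Ideal.span (Set.range fun kl : Fin c × Fin c => a kl.1 kl.2 - b kl.1 kl.2)
  have hJ : ∀ y ∈ J, x * y = 0 := by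
    intro y hy
    refine Submodule.span_induction ?_ ?_ ?_ ?_ hy
    · rintro _ ⟨kl, rfl⟩
      exact h _ _
    · exact mul_zero x
    · intro y z _ _ hy hz
      rw [mul_add, hy, hz, add_zero]
    · intro t y _ hy
      rw [smul_eq_mul, mul_left_comm, hy, mul_zero]
  have hmap : (Ideal.Quotient.mk J).mapMatrix a = (Ideal.Quotient.mk J).mapMatrix b := by
    refine Matrix.ext fun k l => ?_
    simp only [RingHom.mapMatrix_apply, Matrix.map_apply]
    rw [Ideal.Quotient.eq]
    exact Ideal.subset_span ⟨(k, l), rfl⟩
  have hdet : Ideal.Quotient.mk J a.det = Ideal.Quotient.mk J b.det := by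
    rw [RingHom.map_det, RingHom.map_det, hmap]
  have := hJ _ (Ideal.Quotient.eq.mp hdet)
  rw [mul_sub, sub_eq_zero] at this
  exact this

/-- torsion in flat modules, relative version: if `r₀` multiplies the annihilator of `π²` in `R`
into the annihilator of `π`, then the same holds in every flat module. -/
theorem smul_eq_zero_of_sq_smul_eq_zero' {R M : Type*} [CommRing R] [AddCommGroup M] [Module R M]
    [Module.Flat R M] (π r₀ : R) (hR : ∀ x : R, π ^ 2 * x = 0 → π * (r₀ * x) = 0) (y : M)
    (hy : π ^ 2 • y = 0) : (π * r₀) • y = 0 := by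
  have h : ∑ i : Unit, (fun _ => π ^ 2) i • (fun _ => y) i = 0 := by simpa using hy
  obtain ⟨k, a, z, h1, h2⟩ := Module.Flat.isTrivialRelation_of_sum_smul_eq_zero h
  have h3 := h1 ()
  simp only at h3
  rw [h3, Finset.smul_sum]
  refine Finset.sum_eq_zero fun j _ => ?_
  have h4 := h2 j
  simp only [Finset.univ_unique, Finset.sum_singleton] at h4
  rw [smul_smul, mul_assoc, hR _ h4, zero_smul]

/-- In a flat algebra in which `r₀` is a unit, the annihilators of `π³` and `π` agree. -/
theorem mul_eq_zero_of_cube_mul_eq_zero {R T : Type*} [CommRing R] [CommRing T] [Algebra R T]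
    [Module.Flat R T] (π r₀ : R) (hR : ∀ x : R, π ^ 2 * x = 0 → π * (r₀ * x) = 0)
    (hr₀ : IsUnit (algebraMap R T r₀)) (y : T) (hy : algebraMap R T π ^ 3 * y = 0) :
    algebraMap R T π * y = 0 := by
  have key : ∀ z : T, algebraMap R T π ^ 2 * z = 0 → algebraMap R T π * z = 0 := by
    intro z hz
    have h1 : π ^ 2 • z = 0 := by rw [Algebra.smul_def, map_pow]; exact hz
    have h2 := smul_eq_zero_of_sq_smul_eq_zero' π r₀ hR z h1
    rw [Algebra.smul_def, map_mul, mul_assoc, mul_left_comm] at h2
    exact (hr₀.mul_right_eq_zero).mp h2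
  have h1 : algebraMap R T π ^ 2 * (algebraMap R T π * y) = 0 := by
    rw [← hy]; ring
  have h2 := key _ h1
  have h3 : algebraMap R T π ^ 2 * y = 0 := by rw [← h2]; ring
  exact key _ h3

end Groth.Agent.H5.Des
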