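import Mathlib

set_option autoImplicit false
universe u

namespace Groth.Agent.H5.Des

/-- The Nakayama argument of the desingularization lemma. -/
theorem eq_zero_of_nakayama {T : Type*} [CommRing T] [IsLocalRing T] {ι : Type*} [Finite ι]
    (p : T) (hp : p ∈ IsLocalRing.maximalIdeal T) (hann : ∀ y : T, p ^ 3 * y = 0 → p * y = 0)
    (F G' : ι → T) (hFG : ∀ j, F j = p ^ 2 * G' j)
    (hF : ∀ j, p * F j ∈ Ideal.span (Set.range F) ^ 2) : ∀ j, F j = 0 := by
  classical
  cases nonempty_fintype ι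
  set I : Ideal T := Ideal.span (Set.range F) with hI
  have hIp : ∀ t ∈ I, ∃ τ, t = p ^ 2 * τ := by
    intro t ht
    have : I ≤ Ideal.span {p ^ 2} := by
      rw [hI, Ideal.span_le]
      rintro _ ⟨j, rfl⟩
      rw [hFG]
      exact Ideal.mul_mem_right _ _ (Ideal.subset_span rfl)
    obtain ⟨τ, hτ⟩ := Ideal.mem_span_singleton'.mp (this ht)
    exact ⟨τ, by rw [← hτ, mul_comm]⟩
  have hle : I ≤ Ideal.span {p} • I := by
    rw [hI, Ideal.span_le]
    rintro _ ⟨j, rfl⟩
    have h1 := hF j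
    rw [pow_two] at h1
    have h1' : p * F j ∈ I • Submodule.span T (Set.range F) := h1
    rw [Submodule.mem_ideal_smul_span_iff_exists_sum] at h1'
    obtain ⟨a, ha, hsum⟩ := h1'
    rw [Finsupp.sum_fintype a (fun i c => c • F i) (fun i => zero_smul _ _)] at hsum
    choose τ hτ using fun b => hIp (a b) (ha b)
    -- p^3 G'_j = p^4 Σ τ_b G'_b
    have h2 : p ^ 3 * (G' j - p * ∑ b, τ b * G' b) = 0 := by
      have e1 : p ^ 3 * G' j = p * F j := by rw [hFG]; ring
      have e2 : p ^ 3 * (p * ∑ b, τ b * G' b) = ∑ b, a b • F b := by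
        rw [Finset.mul_sum, Finset.mul_sum]
        refine Finset.sum_congr rfl fun b _ => ?_
        rw [hτ b, hFG b, smul_eq_mul]; ring
      rw [mul_sub, e1, e2, hsum, sub_self]
    have h3 := hann _ h2
    rw [mul_sub, sub_eq_zero] at h3
    have h4 : F j = p * ∑ b, τ b * F b := by
      rw [hFG j, pow_two, mul_assoc, h3, Finset.mul_sum, Finset.mul_sum, Finset.mul_sum]
      rw [Finset.mul_sum]
      refine Finset.sum_congr rfl fun b _ => ?_
      rw [hFG b]; ring
    show F j ∈ Ideal.span {p} • I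
    rw [h4, smul_eq_mul]
    refine Ideal.mul_mem_mul (Ideal.subset_span rfl) ?_
    exact Ideal.sum_mem _ fun b _ => Ideal.mul_mem_left _ _ (Ideal.subset_span ⟨b, rfl⟩)
  have hfg : (I : Submodule T T).FG := by
    rw [hI]
    exact Submodule.fg_span (Set.finite_range F)
  have hjac : Ideal.span {p} ≤ Ideal.jacobson ⊥ := by
    rw [IsLocalRing.jacobson_eq_maximalIdeal ⊥ bot_ne_top, Ideal.span_le]
    intro x hx
    rw [Set.mem_singleton_iff.mp hx]
    exact hp
  have hbot : I = ⊥ := Submodule.eq_bot_of_le_smul_of_le_jacobson_bot (Ideal.span {p}) I hfg hle hjac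
  intro j
  have : F j ∈ I := Ideal.subset_span ⟨j, rfl⟩
  rw [hbot] at this
  exact this

end Groth.Agent.H5.Des
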