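import Mathlib

set_option autoImplicit false
universe u

namespace Groth.Agent.H5.Des

/-- If `A_f` is flat over `R` and `f ∉ q`, then `A_q` is flat over `R`. -/
theorem flat_atPrime_of_flat_away {R A : Type*} [CommRing R] [CommRing A] [Algebra R A] (f : A)
    [Module.Flat R (Localization.Away f)] (q : Ideal A) [q.IsPrime] (hf : f ∉ q) :
    Module.Flat R (Localization.AtPrime q) := by
  have hle : Submonoid.powers f ≤ q.primeCompl := by
    rintro _ ⟨k, rfl⟩
    exact fun hk => hf (Ideal.IsPrime.mem_of_pow_mem ‹_› k hk)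
  letI : Algebra (Localization.Away f) (Localization.AtPrime q) :=
    (IsLocalization.lift (M := Submonoid.powers f) (g := algebraMap A (Localization.AtPrime q))
      (fun y => IsLocalization.map_units (Localization.AtPrime q) ⟨y.1, hle y.2⟩)).toAlgebra
  haveI : IsScalarTower A (Localization.Away f) (Localization.AtPrime q) :=
    IsScalarTower.of_algebraMap_eq fun x => (IsLocalization.lift_eq _ x).symm
  haveI : IsScalarTower R (Localization.Away f) (Localization.AtPrime q) := by
    refine IsScalarTower.of_algebraMap_eq fun r => ?_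
    rw [IsScalarTower.algebraMap_apply R A (Localization.AtPrime q),
      IsScalarTower.algebraMap_apply R A (Localization.Away f),
      ← IsScalarTower.algebraMap_apply A (Localization.Away f) (Localization.AtPrime q)]
  haveI : IsLocalization ((q.primeCompl).map (algebraMap A (Localization.Away f)))
      (Localization.AtPrime q) :=
    IsLocalization.isLocalization_of_submonoid_le (Localization.Away f) (Localization.AtPrime q)
      _ _ hle
  haveI : Module.Flat (Localization.Away f) (Localization.AtPrime q) :=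
    IsLocalization.flat (Localization.AtPrime q)
      ((q.primeCompl).map (algebraMap A (Localization.Away f)))
  exact Module.Flat.trans R (Localization.Away f) (Localization.AtPrime q)

/-- Local version of `isSmoothAt_of_vanish`: if `I₁ ≤ I₂`, `Q` is a prime of `P/I₂` with preimage
`Q₁` in `P/I₁`, the local ring of `P/I₁` at `Q₁` is formally smooth over `R` and `I₂` dies in it,
then `P/I₂` is smooth at `Q`. -/
theorem isSmoothAt_of_vanish_local {R P : Type u} [CommRing R] [CommRing P] [Algebra R P]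
    (I₁ I₂ : Ideal P) (h12 : I₁ ≤ I₂) (Q : Ideal (P ⧸ I₂)) [Q.IsPrime]
    (Q₁ : Ideal (P ⧸ I₁)) [Q₁.IsPrime]
    (hQ₁ : ∀ x : P, Ideal.Quotient.mk I₁ x ∈ Q₁ ↔ Ideal.Quotient.mk I₂ x ∈ Q)
    [Algebra.FormallySmooth R (Localization.AtPrime Q₁)]
    (hvan : ∀ x ∈ I₂, algebraMap (P ⧸ I₁) (Localization.AtPrime Q₁) (Ideal.Quotient.mk I₁ x) = 0) :
    Algebra.IsSmoothAt R Q := by
  set A₁ := P ⧸ I₁
  set A₂ := P ⧸ I₂
  set T := Localization.AtPrime Q₁
  let g : A₂ →+* T := Ideal.Quotient.lift I₂ ((algebraMap A₁ T).comp (Ideal.Quotient.mk I₁))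
    (fun x hx => hvan x hx)
  have hg : ∀ x : P, g (Ideal.Quotient.mk I₂ x) = algebraMap A₁ T (Ideal.Quotient.mk I₁ x) :=
    fun x => rfl
  letI : Algebra A₂ T := g.toAlgebra
  have halg : ∀ y : A₂, algebraMap A₂ T y = g y := fun y => rfl
  haveI : IsScalarTower R A₂ T := by
    refine IsScalarTower.of_algebraMap_eq fun r => ?_
    have e1 : algebraMap R A₂ r = Ideal.Quotient.mk I₂ (algebraMap R P r) := rfl
    have e2 : algebraMap R A₁ r = Ideal.Quotient.mk I₁ (algebraMap R P r) := rfl
    rw [halg, e1, hg, ← e2, ← IsScalarTower.algebraMap_apply R A₁ T]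
  haveI : IsLocalization.AtPrime T Q := by
    show IsLocalization Q.primeCompl T
    rw [isLocalization_iff]
    refine ⟨?_, ?_, ?_⟩
    · rintro ⟨y, hy⟩
      obtain ⟨x, rfl⟩ := Ideal.Quotient.mk_surjective y
      rw [halg, hg]
      have : Ideal.Quotient.mk I₁ x ∈ Q₁.primeCompl := fun h => hy ((hQ₁ x).mp h)
      exact IsLocalization.map_units T ⟨_, this⟩
    · intro t
      obtain ⟨⟨a₁, c₁⟩, h⟩ := IsLocalization.surj Q₁.primeCompl t
      obtain ⟨x, hx⟩ := Ideal.Quotient.mk_surjective a₁
      obtain ⟨z, hz⟩ := Ideal.Quotient.mk_surjective c₁.1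
      have hzQ : Ideal.Quotient.mk I₂ z ∈ Q.primeCompl := by
        intro h'
        have := (hQ₁ z).mpr h'
        rw [hz] at this
        exact c₁.2 this
      refine ⟨(Ideal.Quotient.mk I₂ x, ⟨Ideal.Quotient.mk I₂ z, hzQ⟩), ?_⟩
      simp only
      rw [halg, halg, hg, hg, hx, hz]
      exact h
    · intro x y hxy
      obtain ⟨x₁, rfl⟩ := Ideal.Quotient.mk_surjective x
      obtain ⟨y₁, rfl⟩ := Ideal.Quotient.mk_surjective y
      rw [halg, halg, hg, hg] at hxy
      obtain ⟨c₁, hc₁⟩ := (IsLocalization.eq_iff_exists Q₁.primeCompl T).mp hxy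
      obtain ⟨z, hz⟩ := Ideal.Quotient.mk_surjective c₁.1
      have hzQ : Ideal.Quotient.mk I₂ z ∈ Q.primeCompl := by
        intro h'
        have := (hQ₁ z).mpr h'
        rw [hz] at this
        exact c₁.2 this
      refine ⟨⟨Ideal.Quotient.mk I₂ z, hzQ⟩, ?_⟩
      simp only
      rw [← hz, ← map_mul, ← map_mul, Ideal.Quotient.eq] at hc₁
      rw [← map_mul, ← map_mul, Ideal.Quotient.eq]
      exact h12 hc₁
  let e : Localization.AtPrime Q ≃ₐ[A₂] T := IsLocalization.algEquiv Q.primeCompl _ _
  exact Algebra.FormallySmooth.of_equiv (e.restrictScalars R).symm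

end Groth.Agent.H5.Des
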