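import Groth.Agent.Lib.Helper8.StdEl.A
import Groth.Agent.Lib.Helper8.StdEl.K
import Groth.Prelude.Def_Smoothing

/-!
# Desingularization lemma (Stacks 07CQ), part W2: the construction.
-/

set_option autoImplicit false
universe u
open MvPolynomial

namespace Groth.Agent.H5.Des

/-- The data of the desingularization lemma. -/
structure Data (R : Type u) [CommRing R] where
  n : ℕ
  m : ℕ
  c : ℕ
  hcm : c ≤ m
  rel : Fin m → MvPolynomial (Fin n) R
  π : R
  r : Fin n → R
  S : Matrix (Fin n) (Fin c) R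
  u : R
  t : R
  hu : u = 1 - π ^ 3 * t
  b : Fin m → R
  hb : ∀ j, eval r (rel j) = π ^ 4 * b j
  hMS : ∀ k k', ∑ i, eval r (pderiv i (rel (Fin.castLE hcm k))) * S i k' =
    if k = k' then u * π else 0
  AI : (Fin c → Fin n) → MvPolynomial (Fin n) R
  hAI : C π - ∑ cols, AI cols * Smoothing.jacobianMinor rel (Fin.castLE hcm) cols ∈
    Ideal.span (Set.range rel)
  hkt : ∀ j, C π * rel j ∈
    Ideal.span (Set.range (rel ∘ Fin.castLE hcm)) ⊔ Ideal.span (Set.range rel) ^ 2

namespace Data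

variable {R : Type u} [CommRing R] (D : Data R)

/-- the source polynomial ring -/
abbrev P0 : Type u := MvPolynomial (Fin D.n) R
/-- the target polynomial ring -/
abbrev P' : Type u := MvPolynomial (Fin D.c ⊕ Fin D.n) R

/-- the `π²`-free part of the increment. -/
noncomputable def zv (i : Fin D.n) : D.P' :=
  ∑ k, C (D.S i k) * X (Sum.inl k) + C D.π * X (Sum.inr i)

/-- the increment `y_i`. -/
noncomputable def yv (i : Fin D.n) : D.P' := C (D.π ^ 2) * D.zv i

/-- the substitution `θ : x_i ↦ r_i + y_i`. -/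
noncomputable def theta : D.P0 →ₐ[R] D.P' := aeval fun i => C (D.r i) + D.yv i

theorem theta_X (i : Fin D.n) : D.theta (X i) = C (D.r i) + D.yv i := by
  unfold theta; rw [aeval_X]

theorem exists_taylor (q : D.P0) :
    ∃ e : D.P', D.theta q =
      C (eval D.r q) + ∑ i, C (eval D.r (pderiv i q)) * D.yv i + C (D.π ^ 4) * e := by
  classical
  set J : Ideal D.P' := Ideal.span {C (D.π ^ 4)} with hJ
  let u' : D.P0 →ₐ[R] D.P' ⧸ J :=
    (Ideal.Quotient.mkₐ R J).comp ((Algebra.ofId R D.P').comp (aeval D.r))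
  let v' : D.P0 →ₐ[R] D.P' ⧸ J := (Ideal.Quotient.mkₐ R J).comp D.theta
  have hu' : ∀ p, u' p = Ideal.Quotient.mk J (C (eval D.r p)) := by
    intro p
    show Ideal.Quotient.mk J (algebraMap R D.P' (aeval D.r p)) = _
    rw [MvPolynomial.algebraMap_eq, aeval_eq_eval]
  have hv' : ∀ p, v' p = Ideal.Quotient.mk J (D.theta p) := fun p => rfl
  have hd : ∀ i, u' (X i) - v' (X i) = - Ideal.Quotient.mk J (D.yv i) := by
    intro i
    rw [hu', hv', theta_X, eval_X, map_add]
    ring
  have hsq : ∀ i j, (u' (X i) - v' (X i)) * (u' (X j) - v' (X j)) = 0 := by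
    intro i j
    have hnn : ∀ a b : D.P' ⧸ J, -a * -b = a * b := fun a b => by ring
    rw [hd, hd, hnn, ← map_mul, Ideal.Quotient.eq_zero_iff_mem, hJ,
      Ideal.mem_span_singleton']
    refine ⟨D.zv i * D.zv j, ?_⟩
    unfold yv
    rw [show D.π ^ 4 = D.π ^ 2 * D.π ^ 2 by ring, C_mul]
    ring
  have h1 := H8.StdEl.taylor_sq_zero u' v' hsq q
  have h2 : Ideal.Quotient.mk J (D.theta q) = Ideal.Quotient.mk J
      (C (eval D.r q) + ∑ i, C (eval D.r (pderiv i q)) * D.yv i) := by
    rw [map_add, map_sum]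
    have : ∀ i, u' (pderiv i q) * (u' (X i) - v' (X i)) =
        - Ideal.Quotient.mk J (C (eval D.r (pderiv i q)) * D.yv i) := by
      intro i
      rw [hd, hu', map_mul]; ring
    rw [Finset.sum_congr rfl fun i _ => this i, Finset.sum_neg_distrib, hu', hv'] at h1
    rw [← sub_eq_zero]
    rw [sub_eq_iff_eq_add] at h1
    rw [h1]; ring
  rw [Ideal.Quotient.eq, hJ, Ideal.mem_span_singleton'] at h2
  obtain ⟨e, he⟩ := h2
  exact ⟨e, by rw [mul_comm, he]; ring⟩

/-- the Taylor remainder. -/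
noncomputable def ee (q : D.P0) : D.P' := Classical.choose (D.exists_taylor q)

theorem taylor (q : D.P0) : D.theta q =
    C (eval D.r q) + ∑ i, C (eval D.r (pderiv i q)) * D.yv i + C (D.π ^ 4) * D.ee q :=
  Classical.choose_spec (D.exists_taylor q)

/-- the Jacobian matrix at `r` of the leading relations. -/
noncomputable def Mr (k : Fin D.c) (i : Fin D.n) : R :=
  eval D.r (pderiv i (D.rel (Fin.castLE D.hcm k)))

/-- the new leading relations. -/
noncomputable def G (k : Fin D.c) : D.P' :=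
  C D.u * X (Sum.inl k) + ∑ i, C (D.Mr k i) * X (Sum.inr i) +
    C D.π * (C (D.b (Fin.castLE D.hcm k)) + D.ee (D.rel (Fin.castLE D.hcm k)))

theorem sum_Mr_yv (k : Fin D.c) :
    ∑ i, C (D.Mr k i) * D.yv i =
      C (D.π ^ 3) * (C D.u * X (Sum.inl k) + ∑ i, C (D.Mr k i) * X (Sum.inr i)) := by
  classical
  have h1 : ∀ i, C (D.Mr k i) * D.yv i =
      C (D.π ^ 2) * ∑ k', C (D.Mr k i * D.S i k') * X (Sum.inl k') +
        C (D.π ^ 3) * (C (D.Mr k i) * X (Sum.inr i)) := by
    intro i
    unfold yv zv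
    rw [show D.π ^ 3 = D.π ^ 2 * D.π by ring, C_mul, mul_add, mul_add, Finset.mul_sum,
      Finset.mul_sum, Finset.mul_sum]
    congr 1
    · refine Finset.sum_congr rfl fun k' _ => ?_
      rw [C_mul]; ring
    · ring
  rw [Finset.sum_congr rfl fun i _ => h1 i, Finset.sum_add_distrib, ← Finset.mul_sum,
    ← Finset.mul_sum, Finset.sum_comm]
  have h2 : ∀ k', ∑ i, C (D.Mr k i * D.S i k') * X (Sum.inl k') =
      C (if k = k' then D.u * D.π else 0) * (X (Sum.inl k') : D.P') := by
    intro k'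
    rw [← Finset.sum_mul, ← map_sum]
    congr 2
    exact D.hMS k k'
  rw [Finset.sum_congr rfl fun k' _ => h2 k']
  have h3 : ∑ k', C (if k = k' then D.u * D.π else 0) * (X (Sum.inl k') : D.P') =
      C (D.u * D.π) * X (Sum.inl k) := by
    rw [Finset.sum_eq_single k]
    · rw [if_pos rfl]
    · intro k' _ hk'
      rw [if_neg (Ne.symm hk'), C_0, zero_mul]
    · intro h; exact absurd (Finset.mem_univ k) h
  rw [h3, show D.π ^ 3 = D.π ^ 2 * D.π by ring, C_mul, C_mul]
  ring

theorem theta_rel_leading (k : Fin D.c) :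
    D.theta (D.rel (Fin.castLE D.hcm k)) = C (D.π ^ 3) * D.G k := by
  rw [D.taylor, D.hb]
  have : ∑ i, C (eval D.r (pderiv i (D.rel (Fin.castLE D.hcm k)))) * D.yv i =
      ∑ i, C (D.Mr k i) * D.yv i := rfl
  rw [this, sum_Mr_yv]
  unfold G
  rw [show D.π ^ 4 = D.π ^ 3 * D.π by ring, C_mul, C_mul]
  ring

theorem exists_theta_rel (j : Fin D.m) : ∃ G' : D.P', D.theta (D.rel j) = C (D.π ^ 2) * G' := by
  refine ⟨C (D.π ^ 2) * C (D.b j) + ∑ i, C (eval D.r (pderiv i (D.rel j))) * D.zv i +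
    C (D.π ^ 2) * D.ee (D.rel j), ?_⟩
  rw [D.taylor, D.hb]
  unfold yv
  rw [show D.π ^ 4 = D.π ^ 2 * D.π ^ 2 by ring, C_mul, C_mul, mul_add, mul_add, Finset.mul_sum]
  congr 1
  · congr 1
    · ring
    · refine Finset.sum_congr rfl fun i _ => ?_
      ring
  · ring

theorem pderiv_inr_theta (i : Fin D.n) (q : D.P0) :
    pderiv (Sum.inr i) (D.theta q) = C (D.π ^ 3) * D.theta (pderiv i q) := by
  classical
  have h := H8.StdEl.chain_rule (R := R) (A := D.P') D.theta
    (pderiv (R := R) (σ := Fin D.c ⊕ Fin D.n) (Sum.inr i)) q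
  rw [h]
  have h1 : ∀ i', pderiv (Sum.inr i) (D.theta (X i')) =
      if i' = i then C (D.π ^ 3) else (0 : D.P') := by
    intro i'
    rw [theta_X]
    unfold yv zv
    rw [map_add, pderiv_C, zero_add, Derivation.leibniz, pderiv_C, smul_zero, add_zero, map_add,
      map_sum]
    have e1 : ∀ k : Fin D.c, pderiv (Sum.inr i) (C (D.S i' k) * X (Sum.inl k) : D.P') = 0 := by
      intro k
      rw [Derivation.leibniz, pderiv_C, smul_zero, add_zero, pderiv_X, Pi.single_apply,
        if_neg (by simp), smul_zero]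
    rw [Finset.sum_congr rfl fun k _ => e1 k, Finset.sum_const_zero, zero_add,
      Derivation.leibniz, pderiv_C, smul_zero, add_zero, pderiv_X, Pi.single_apply]
    by_cases hi : i' = i
    · subst hi
      rw [if_pos rfl, if_pos rfl, smul_eq_mul, smul_eq_mul, mul_one,
        show D.π ^ 3 = D.π ^ 2 * D.π by ring, C_mul]
    · rw [if_neg (fun h => hi (Sum.inr_injective h)), if_neg hi, smul_zero, smul_zero]
  simp only [h1, smul_eq_mul, mul_ite, mul_zero, Finset.sum_ite_eq', Finset.mem_univ, if_true]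
  ring

end Data

end Groth.Agent.H5.Des
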