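import Groth.Agent.Lib.Helper5.Des.W1
import Groth.Agent.Lib.Helper5.Des.W2
import Groth.Agent.Lib.Helper8.StdEl.E
import Groth.Agent.Lib.Helper8.StdEl.F

/-!
# Desingularization lemma (Stacks 07CQ), part W3: the algebra `B` and smoothness away from `π`.
-/

set_option autoImplicit false
universe u
open MvPolynomial

namespace Groth.Agent.H5.Des

namespace Data

variable {R : Type u} [CommRing R] (D : Data R)

/-- the relations of `B`. -/
noncomputable def relB : Fin D.c ⊕ Fin D.m → D.P' :=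
  Sum.elim D.G (fun j => D.theta (D.rel j))

/-- the ideal of the leading relations. -/
noncomputable def I1 : Ideal D.P' := Ideal.span (Set.range D.G)

/-- the ideal of `B`. -/
noncomputable def IB : Ideal D.P' := Ideal.span (Set.range D.relB)

theorem G_mem_I1 (k : Fin D.c) : D.G k ∈ D.I1 := Ideal.subset_span ⟨k, rfl⟩

theorem G_mem_IB (k : Fin D.c) : D.G k ∈ D.IB := Ideal.subset_span ⟨Sum.inl k, rfl⟩

theorem theta_rel_mem_IB (j : Fin D.m) : D.theta (D.rel j) ∈ D.IB :=
  Ideal.subset_span ⟨Sum.inr j, rfl⟩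

theorem I1_le_IB : D.I1 ≤ D.IB := by
  unfold I1
  rw [Ideal.span_le]
  rintro _ ⟨k, rfl⟩
  exact D.G_mem_IB k

theorem IB_eq : D.IB = D.I1 ⊔ Ideal.span (Set.range fun j => D.theta (D.rel j)) := by
  apply le_antisymm
  · unfold IB
    rw [Ideal.span_le]
    rintro _ ⟨(k | j), rfl⟩
    · exact Ideal.mem_sup_left (D.G_mem_I1 k)
    · exact Ideal.mem_sup_right (Ideal.subset_span ⟨j, rfl⟩)
  · rw [sup_le_iff, Ideal.span_le]
    refine ⟨D.I1_le_IB, ?_⟩
    rintro _ ⟨j, rfl⟩
    exact D.theta_rel_mem_IB j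

theorem theta_leading_mem_I1 (k : Fin D.c) : D.theta (D.rel (Fin.castLE D.hcm k)) ∈ D.I1 := by
  rw [D.theta_rel_leading]
  exact Ideal.mul_mem_left _ _ (D.G_mem_I1 k)

theorem map_theta_le : (Ideal.span (Set.range D.rel)).map D.theta ≤ D.IB := by
  rw [Ideal.map_span, Ideal.span_le]
  rintro _ ⟨_, ⟨j, rfl⟩, rfl⟩
  exact D.theta_rel_mem_IB j

theorem theta_mem_IB {q : D.P0} (hq : q ∈ Ideal.span (Set.range D.rel)) : D.theta q ∈ D.IB :=
  D.map_theta_le (Ideal.mem_map_of_mem _ hq)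

theorem map_theta_leading_le :
    (Ideal.span (Set.range (D.rel ∘ Fin.castLE D.hcm))).map D.theta ≤ D.I1 := by
  rw [Ideal.map_span, Ideal.span_le]
  rintro _ ⟨_, ⟨k, rfl⟩, rfl⟩
  exact D.theta_leading_mem_I1 k

theorem theta_mem_of_mem_sup {x : D.P0}
    (hx : x ∈ Ideal.span (Set.range (D.rel ∘ Fin.castLE D.hcm)) ⊔
      Ideal.span (Set.range D.rel) ^ 2) :
    D.theta x ∈ D.I1 ⊔ D.IB ^ 2 := by
  obtain ⟨x₁, hx₁, x₂, hx₂, rfl⟩ := Submodule.mem_sup.mp hx
  rw [map_add]
  refine Ideal.add_mem _ (Ideal.mem_sup_left ?_) (Ideal.mem_sup_right ?_)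
  · exact D.map_theta_leading_le (Ideal.mem_map_of_mem _ hx₁)
  · have : (Ideal.span (Set.range D.rel) ^ 2).map D.theta ≤ D.IB ^ 2 := by
      rw [Ideal.map_pow]
      exact Ideal.pow_right_mono D.map_theta_le 2
    exact this (Ideal.mem_map_of_mem _ hx₂)

theorem theta_C (a : R) : D.theta (C a) = C a := by
  unfold theta
  rw [aeval_C]; rfl

/-- the Jacobian minor of the new leading relations w.r.t. the `w`-columns `cols`. -/
noncomputable def Det (cols : Fin D.c → Fin D.n) : D.P' :=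
  Matrix.det (Matrix.of fun k l : Fin D.c => pderiv (Sum.inr (cols l)) (D.G k))

theorem pi_cube_mul_pderiv_G (k : Fin D.c) (i : Fin D.n) :
    C (D.π ^ 3) * pderiv (Sum.inr i) (D.G k) =
      C (D.π ^ 3) * D.theta (pderiv i (D.rel (Fin.castLE D.hcm k))) := by
  rw [← D.pderiv_inr_theta, D.theta_rel_leading, Derivation.leibniz, pderiv_C, smul_zero,
    add_zero, smul_eq_mul]

theorem pi_cube_mul_Det (cols : Fin D.c → Fin D.n) :
    C (D.π ^ 3) * D.Det cols =
      C (D.π ^ 3) * D.theta (Smoothing.jacobianMinor D.rel (Fin.castLE D.hcm) cols) := by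
  unfold Det Smoothing.jacobianMinor
  rw [AlgHom.map_det]
  refine mul_det_eq_of_mul_sub_eq_zero _ _ _ fun k l => ?_
  rw [mul_sub, sub_eq_zero]
  exact D.pi_cube_mul_pderiv_G k (cols l)

theorem Det_eq_zero_of_not_injective (cols : Fin D.c → Fin D.n)
    (h : ¬ Function.Injective cols) : D.Det cols = 0 := by
  unfold Function.Injective at h
  push Not at h
  obtain ⟨l₁, l₂, hl, hne⟩ := h
  unfold Det
  refine Matrix.det_zero_of_column_eq hne fun k => ?_
  simp only [Matrix.of_apply]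
  rw [hl]

theorem pi_four_sub_mem :
    C (D.π ^ 4) - ∑ cols, D.theta (D.AI cols) * (C (D.π ^ 3) * D.Det cols) ∈ D.IB := by
  have h1 := D.theta_mem_IB D.hAI
  rw [map_sub, map_sum, D.theta_C] at h1
  have h2 := D.IB.mul_mem_left (C (D.π ^ 3)) h1
  have e : C (D.π ^ 3) * (C D.π - ∑ cols, D.theta (D.AI cols *
      Smoothing.jacobianMinor D.rel (Fin.castLE D.hcm) cols)) =
      C (D.π ^ 4) - ∑ cols, D.theta (D.AI cols) * (C (D.π ^ 3) * D.Det cols) := by
    rw [mul_sub, Finset.mul_sum, show D.π ^ 4 = D.π ^ 3 * D.π by ring, C_mul]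
    congr 1
    refine Finset.sum_congr rfl fun cols _ => ?_
    rw [map_mul, D.pi_cube_mul_Det]
    ring
  rw [e] at h2
  exact h2

/-- the standard elements of `B`. -/
noncomputable def stdA (cols : Fin D.c → Fin D.n) : D.P' :=
  C D.π * D.theta (D.AI cols) * C (D.π ^ 3) * D.Det cols

theorem pi_five_sub_mem : C (D.π ^ 5) - ∑ cols, D.stdA cols ∈ D.IB := by
  have h2 := D.IB.mul_mem_left (C D.π) D.pi_four_sub_mem
  have e : C D.π * (C (D.π ^ 4) - ∑ cols, D.theta (D.AI cols) * (C (D.π ^ 3) * D.Det cols)) =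
      C (D.π ^ 5) - ∑ cols, D.stdA cols := by
    rw [mul_sub, Finset.mul_sum, show D.π ^ 5 = D.π * D.π ^ 4 by ring, C_mul]
    congr 1
    refine Finset.sum_congr rfl fun cols _ => ?_
    unfold stdA
    ring
  rw [e] at h2
  exact h2

theorem isElementaryStandard_stdA (cols : Fin D.c → Fin D.n) (hcols : Function.Injective cols) :
    Smoothing.IsElementaryStandard R (D.P' ⧸ D.IB) (Ideal.Quotient.mk D.IB (D.stdA cols)) := by
  classical
  refine Groth.Agent.H8.StdEl.isElementaryStandard_of_finite D.relB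
    (Ideal.Quotient.mkₐ R D.IB) (Ideal.Quotient.mkₐ_surjective R D.IB) ?_
    (⟨Sum.inl, Sum.inl_injective⟩ : Fin D.c ↪ Fin D.c ⊕ Fin D.m)
    (⟨Sum.inr ∘ cols, Sum.inr_injective.comp hcols⟩ : Fin D.c ↪ Fin D.c ⊕ Fin D.n) _
    (Ideal.Quotient.mk D.IB (C D.π * D.theta (D.AI cols) * C (D.π ^ 3))) ?_ ?_
  · exact Ideal.Quotient.mkₐ_ker R D.IB
  · have hmat : (Matrix.of fun j k : Fin D.c =>
        pderiv ((⟨Sum.inr ∘ cols, Sum.inr_injective.comp hcols⟩ :
          Fin D.c ↪ Fin D.c ⊕ Fin D.n) k)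
          (D.relB ((⟨Sum.inl, Sum.inl_injective⟩ : Fin D.c ↪ Fin D.c ⊕ Fin D.m) j))).det =
        D.Det cols := rfl
    rw [hmat]
    show Ideal.Quotient.mk D.IB (D.stdA cols) = _
    unfold stdA
    exact map_mul (Ideal.Quotient.mk D.IB) _ _
  · rintro a₁ ha₁ (k | j)
    · exact Ideal.mem_sup_left (Ideal.mul_mem_left _ _ (Ideal.subset_span ⟨k, rfl⟩))
    · have hd : a₁ - D.stdA cols ∈ D.IB := by
        rw [← Ideal.Quotient.eq]
        exact ha₁
      have e : a₁ * D.relB (Sum.inr j) =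
          (D.theta (D.AI cols) * C (D.π ^ 3) * D.Det cols) * D.theta (C D.π * D.rel j) +
            (a₁ - D.stdA cols) * D.theta (D.rel j) := by
        show a₁ * D.theta (D.rel j) = _
        rw [map_mul, D.theta_C]
        unfold stdA
        ring
      rw [e]
      have hrange : Ideal.span (Set.range (D.relB ∘
          (⟨Sum.inl, Sum.inl_injective⟩ : Fin D.c ↪ Fin D.c ⊕ Fin D.m))) = D.I1 := rfl
      rw [hrange]
      refine Ideal.add_mem _ (Ideal.mul_mem_left _ _ ?_) (Ideal.mem_sup_right ?_)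
      · exact D.theta_mem_of_mem_sup (D.hkt j)
      · rw [pow_two]
        exact Ideal.mul_mem_mul hd (D.theta_rel_mem_IB j)

instance finitePresentation_B : Algebra.FinitePresentation R (D.P' ⧸ D.IB) :=
  Algebra.FinitePresentation.quotient (Submodule.fg_span (Set.finite_range D.relB))

/-- `B` is smooth over `R` at the primes not containing `π`. -/
theorem isSmoothAt_of_pi_notMem (Q : Ideal (D.P' ⧸ D.IB)) [Q.IsPrime]
    (hπ : Ideal.Quotient.mk D.IB (C D.π) ∉ Q) : Algebra.IsSmoothAt R Q := by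
  classical
  have h5 : Ideal.Quotient.mk D.IB (C (D.π ^ 5)) ∉ Q := by
    rw [C_pow, map_pow]
    exact fun h => hπ (Ideal.IsPrime.mem_of_pow_mem ‹_› _ h)
  have hsum : Ideal.Quotient.mk D.IB (C (D.π ^ 5)) =
      ∑ cols, Ideal.Quotient.mk D.IB (D.stdA cols) := by
    rw [← map_sum, Ideal.Quotient.eq]
    exact D.pi_five_sub_mem
  obtain ⟨cols, hcols⟩ : ∃ cols, Ideal.Quotient.mk D.IB (D.stdA cols) ∉ Q := by
    by_contra hcon
    push Not at hcon
    apply h5
    rw [hsum]
    exact Ideal.sum_mem _ fun cols _ => hcon cols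
  have hinj : Function.Injective cols := by
    by_contra hni
    apply hcols
    unfold stdA
    rw [D.Det_eq_zero_of_not_injective cols hni, mul_zero, map_zero]
    exact Q.zero_mem
  exact Groth.Agent.H8.StdEl.isSmoothAt_of_isStrictlyStandard
    (Groth.Agent.H8.StdEl.isElementaryStandard.isStrictlyStandard
      (D.isElementaryStandard_stdA cols hinj)) Q hcols

end Data

end Groth.Agent.H5.Des
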