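import Groth.Agent.Lib.Helper5.Des.W1b
import Groth.Agent.Lib.Helper5.Des.W1c
import Groth.Agent.Lib.Helper5.Des.W3
import Groth.Agent.Lib.Helper8.StdSmooth.Main

/-!
# Desingularization lemma (Stacks 07CQ), part W4: smoothness of `B` at primes containing `π`.
-/

set_option autoImplicit false
universe u
open MvPolynomial

namespace Groth.Agent.H5.Des

namespace Data

variable {R : Type u} [CommRing R] (D : Data R)

/-- the Jacobian minor of the new leading relations w.r.t. the `v`-columns. -/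
noncomputable def S0 : D.P' :=
  Matrix.det (Matrix.of fun k k' : Fin D.c => pderiv (Sum.inl k') (D.G k))

theorem mk_C_u : Ideal.Quotient.mk (Ideal.span {(C D.π : D.P')}) (C D.u) = 1 := by
  have : (C D.u : D.P') = 1 - C D.π * C (D.π ^ 2 * D.t) := by
    rw [D.hu, C_sub, C_1, ← C_mul]
    congr 2
    ring
  rw [this, map_sub, map_one, map_mul,
    Ideal.Quotient.eq_zero_iff_mem.mpr (Ideal.subset_span (Set.mem_singleton _)), zero_mul,
    sub_zero]

theorem pderiv_inl_G (k k' : Fin D.c) :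
    pderiv (Sum.inl k') (D.G k) = C D.u * (if k = k' then 1 else 0) +
      C D.π * pderiv (Sum.inl k')
        (C (D.b (Fin.castLE D.hcm k)) + D.ee (D.rel (Fin.castLE D.hcm k))) := by
  classical
  unfold G
  rw [map_add, map_add, map_sum]
  have e1 : ∀ i : Fin D.n, pderiv (Sum.inl k') (C (D.Mr k i) * X (Sum.inr i) : D.P') = 0 := by
    intro i
    rw [Derivation.leibniz, pderiv_C, smul_zero, add_zero, pderiv_X, Pi.single_apply,
      if_neg (by simp), smul_zero]
  rw [Finset.sum_congr rfl fun i _ => e1 i, Finset.sum_const_zero, add_zero,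
    Derivation.leibniz, pderiv_C, smul_zero, add_zero, pderiv_X, Pi.single_apply, smul_eq_mul,
    Derivation.leibniz (pderiv (Sum.inl k')) (C D.π), pderiv_C, smul_zero, add_zero, smul_eq_mul]
  congr 2
  by_cases h : k = k'
  · subst h; rw [if_pos rfl, if_pos rfl]
  · rw [if_neg h, if_neg (fun h' => h (Sum.inl_injective h'))]

theorem exists_S0 : ∃ z : D.P', D.S0 = 1 + C D.π * z := by
  classical
  set J : Ideal D.P' := Ideal.span {(C D.π : D.P')} with hJ
  have hmat : (Ideal.Quotient.mk J).mapMatrix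
      (Matrix.of fun k k' : Fin D.c => pderiv (Sum.inl k') (D.G k)) = 1 := by
    refine Matrix.ext fun k k' => ?_
    simp only [RingHom.mapMatrix_apply, Matrix.map_apply, Matrix.of_apply]
    rw [D.pderiv_inl_G, map_add, map_mul, map_mul, D.mk_C_u, one_mul,
      Ideal.Quotient.eq_zero_iff_mem.mpr (Ideal.subset_span (Set.mem_singleton _)), zero_mul,
      add_zero, Matrix.one_apply]
    by_cases h : k = k'
    · rw [if_pos h, if_pos h, map_one]
    · rw [if_neg h, if_neg h, map_zero]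
  have h1 : Ideal.Quotient.mk J D.S0 = Ideal.Quotient.mk J 1 := by
    unfold S0
    rw [RingHom.map_det, hmat, Matrix.det_one, map_one]
  rw [Ideal.Quotient.eq, hJ, Ideal.mem_span_singleton'] at h1
  obtain ⟨z, hz⟩ := h1
  exact ⟨z, by rw [mul_comm, hz]; ring⟩

instance finitePresentation_B' : Algebra.FinitePresentation R (D.P' ⧸ D.I1) :=
  Algebra.FinitePresentation.quotient (Submodule.fg_span (Set.finite_range D.G))

theorem isElementaryStandard_S0 :
    Smoothing.IsElementaryStandard R (D.P' ⧸ D.I1) (Ideal.Quotient.mk D.I1 D.S0) := by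
  classical
  refine Groth.Agent.H8.StdEl.isElementaryStandard_of_finite D.G
    (Ideal.Quotient.mkₐ R D.I1) (Ideal.Quotient.mkₐ_surjective R D.I1) ?_
    (Function.Embedding.refl (Fin D.c))
    (⟨Sum.inl, Sum.inl_injective⟩ : Fin D.c ↪ Fin D.c ⊕ Fin D.n) _ 1 ?_ ?_
  · exact Ideal.Quotient.mkₐ_ker R D.I1
  · rw [one_mul]
    rfl
  · intro a₁ _ ℓ
    exact Ideal.mem_sup_left (Ideal.mul_mem_left _ _ (Ideal.subset_span ⟨ℓ, rfl⟩))

/-- The tail relations vanish in every flat local `R`-algebra under `B'` in which `π` is not a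
unit and `r₀` is a unit. -/
theorem tail_vanish {T : Type*} [CommRing T] [IsLocalRing T] [Algebra R T] [Module.Flat R T]
    (ψ : D.P' →ₐ[R] T) (hψ : ∀ k, ψ (D.G k) = 0)
    (hπ : algebraMap R T D.π ∈ IsLocalRing.maximalIdeal T) (r₀ : R)
    (hR : ∀ x : R, D.π ^ 2 * x = 0 → D.π * (r₀ * x) = 0)
    (hr₀ : IsUnit (algebraMap R T r₀)) (j : Fin D.m) : ψ (D.theta (D.rel j)) = 0 := by
  have hC : ∀ a : R, ψ (C a) = algebraMap R T a := fun a => by
    rw [← MvPolynomial.algebraMap_eq, ψ.commutes]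
  have hI1 : ∀ x ∈ D.I1, ψ x = 0 := by
    intro x hx
    have : D.I1 ≤ RingHom.ker ψ.toRingHom := by
      unfold I1
      rw [Ideal.span_le]
      rintro _ ⟨k, rfl⟩
      exact hψ k
    exact this hx
  choose G' hG' using D.exists_theta_rel
  refine eq_zero_of_nakayama (algebraMap R T D.π) hπ
    (fun y hy => mul_eq_zero_of_cube_mul_eq_zero D.π r₀ hR hr₀ y hy)
    (fun j => ψ (D.theta (D.rel j))) (fun j => ψ (G' j)) ?_ ?_ j
  · intro j
    show ψ (D.theta (D.rel j)) = _
    rw [hG', map_mul, hC, map_pow]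
  · intro j
    show algebraMap R T D.π * ψ (D.theta (D.rel j)) ∈ _
    have e : algebraMap R T D.π * ψ (D.theta (D.rel j)) = ψ (D.theta (C D.π * D.rel j)) := by
      rw [map_mul, map_mul, D.theta_C, hC]
    rw [e]
    obtain ⟨x₁, hx₁, x₂, hx₂, hx⟩ := Submodule.mem_sup.mp (D.hkt j)
    rw [← hx, map_add, map_add,
      hI1 _ (D.map_theta_leading_le (Ideal.mem_map_of_mem _ hx₁)), zero_add]
    let Ψ : D.P0 →+* T := ψ.toRingHom.comp D.theta.toRingHom
    have h1 : Ψ x₂ ∈ (Ideal.span (Set.range D.rel) ^ 2).map Ψ := Ideal.mem_map_of_mem _ hx₂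
    rw [Ideal.map_pow, Ideal.map_span, ← Set.range_comp] at h1
    exact h1

/-- `B` is smooth over `R` at the primes containing `π` but not `r₀`. -/
theorem isSmoothAt_of_pi_mem (Q : Ideal (D.P' ⧸ D.IB)) [Q.IsPrime]
    (hπ : Ideal.Quotient.mk D.IB (C D.π) ∈ Q) (r₀ : R)
    (hR : ∀ x : R, D.π ^ 2 * x = 0 → D.π * (r₀ * x) = 0)
    (hr₀ : Ideal.Quotient.mk D.IB (C r₀) ∉ Q) : Algebra.IsSmoothAt R Q := by
  classical
  set Q₁ : Ideal (D.P' ⧸ D.I1) := Q.comap (Ideal.Quotient.factor D.I1_le_IB) with hQ₁def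
  haveI : Q₁.IsPrime := Ideal.comap_isPrime _ _
  have hQ₁ : ∀ x : D.P', Ideal.Quotient.mk D.I1 x ∈ Q₁ ↔ Ideal.Quotient.mk D.IB x ∈ Q := by
    intro x
    rw [hQ₁def, Ideal.mem_comap, Ideal.Quotient.factor_mk]
  have hS0 : Ideal.Quotient.mk D.I1 D.S0 ∉ Q₁ := by
    rw [hQ₁]
    obtain ⟨z, hz⟩ := D.exists_S0
    intro h
    have h1 : (1 : D.P' ⧸ D.IB) ∈ Q := by
      have : (1 : D.P' ⧸ D.IB) = Ideal.Quotient.mk D.IB D.S0 -
          Ideal.Quotient.mk D.IB (C D.π) * Ideal.Quotient.mk D.IB z := by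
        rw [hz, map_add, map_mul, map_one]; ring
      rw [this]
      exact Q.sub_mem h (Q.mul_mem_right _ hπ)
    exact (Ideal.ne_top_iff_one Q).mp (Ideal.IsPrime.ne_top ‹_›) h1
  haveI : Algebra.FormallySmooth R (Localization.AtPrime Q₁) :=
    (Groth.Agent.H8.StdEl.isSmoothAt_of_isStrictlyStandard
      (Groth.Agent.H8.StdEl.isElementaryStandard.isStrictlyStandard D.isElementaryStandard_S0)
      Q₁ hS0 : Algebra.IsSmoothAt R Q₁)
  haveI : Module.Flat R (Localization.AtPrime Q₁) := by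
    haveI := Groth.Agent.H8.StdSmooth.isStandardSmooth_of_isElementaryStandard _
      D.isElementaryStandard_S0
    haveI : Module.Flat R (Localization.Away (Ideal.Quotient.mk D.I1 D.S0)) := inferInstance
    exact flat_atPrime_of_flat_away (Ideal.Quotient.mk D.I1 D.S0) Q₁ hS0
  let ψ : D.P' →ₐ[R] Localization.AtPrime Q₁ :=
    (IsScalarTower.toAlgHom R (D.P' ⧸ D.I1) (Localization.AtPrime Q₁)).comp
      (Ideal.Quotient.mkₐ R D.I1)
  have hψ : ∀ x, ψ x = algebraMap (D.P' ⧸ D.I1) (Localization.AtPrime Q₁)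
      (Ideal.Quotient.mk D.I1 x) := fun x => rfl
  have hCmk : ∀ a : R, algebraMap R (Localization.AtPrime Q₁) a =
      algebraMap (D.P' ⧸ D.I1) (Localization.AtPrime Q₁) (Ideal.Quotient.mk D.I1 (C a)) := by
    intro a
    rw [IsScalarTower.algebraMap_apply R (D.P' ⧸ D.I1) (Localization.AtPrime Q₁)]
    rfl
  refine isSmoothAt_of_vanish_local D.I1 D.IB D.I1_le_IB Q Q₁ hQ₁ ?_
  have hle : D.IB ≤ RingHom.ker ψ.toRingHom := by
    unfold IB
    rw [Ideal.span_le]
    rintro _ ⟨(k | j), rfl⟩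
    · show ψ (D.G k) = 0
      rw [hψ, Ideal.Quotient.eq_zero_iff_mem.mpr (D.G_mem_I1 k), map_zero]
    · show ψ (D.theta (D.rel j)) = 0
      refine D.tail_vanish (T := Localization.AtPrime Q₁) ψ ?_ ?_ r₀ hR ?_ j
      · intro k
        rw [hψ, Ideal.Quotient.eq_zero_iff_mem.mpr (D.G_mem_I1 k), map_zero]
      · rw [hCmk, IsLocalization.AtPrime.to_map_mem_maximal_iff (Localization.AtPrime Q₁) Q₁, hQ₁]
        exact hπ
      · rw [hCmk, IsLocalization.AtPrime.isUnit_to_map_iff (Localization.AtPrime Q₁) Q₁]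
        show Ideal.Quotient.mk D.I1 (C r₀) ∉ Q₁
        rw [hQ₁]
        exact hr₀
  intro x hx
  exact hle hx

end Data

end Groth.Agent.H5.Des
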