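import Groth.Agent.Lib.Helper5.Des.W4

/-!
# Desingularization lemma (Stacks 07CQ), part W5: the map to `Λ`.
-/

set_option autoImplicit false
universe u
open MvPolynomial

namespace Groth.Agent.H5.Des

namespace Data

variable {R : Type u} [CommRing R] (D : Data R) {Λ : Type*} [CommRing Λ] [Algebra R Λ]
  (lam : Fin D.n → Λ)

/-- the map `P' → Λ`: `v ↦ 0`, `w_i ↦ π λ_i`. -/
noncomputable def beta0 : D.P' →ₐ[R] Λ :=
  aeval (Sum.elim (fun _ : Fin D.c => (0 : Λ)) (fun i => D.π • lam i))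

theorem beta0_C (a : R) : D.beta0 lam (C a) = algebraMap R Λ a := by
  unfold beta0; rw [aeval_C]

theorem beta0_inl (k : Fin D.c) : D.beta0 lam (X (Sum.inl k)) = 0 := by
  unfold beta0; rw [aeval_X]; rfl

theorem beta0_inr (i : Fin D.n) : D.beta0 lam (X (Sum.inr i)) = D.π • lam i := by
  unfold beta0; rw [aeval_X]; rfl

theorem beta0_zv (i : Fin D.n) : D.beta0 lam (D.zv i) = D.π ^ 2 • lam i := by
  unfold zv
  rw [map_add, map_sum]
  have : ∀ k : Fin D.c, D.beta0 lam (C (D.S i k) * X (Sum.inl k)) = 0 := fun k => by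
    rw [map_mul, beta0_inl, mul_zero]
  rw [Finset.sum_congr rfl fun k _ => this k, Finset.sum_const_zero, zero_add, map_mul, beta0_C,
    beta0_inr, ← Algebra.smul_def, smul_smul, pow_two]

theorem beta0_theta_X (i : Fin D.n) :
    D.beta0 lam (D.theta (X i)) = algebraMap R Λ (D.r i) + D.π ^ 4 • lam i := by
  rw [D.theta_X]
  unfold yv
  rw [map_add, map_mul, beta0_C, beta0_C, beta0_zv, ← Algebra.smul_def, smul_smul]
  congr 2
  ring

theorem beta0_comp_theta (φ₀ : D.P0 →ₐ[R] Λ)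
    (hφ₀ : ∀ i, φ₀ (X i) = algebraMap R Λ (D.r i) + D.π ^ 4 • lam i) :
    (D.beta0 lam).comp D.theta = φ₀ := by
  apply MvPolynomial.algHom_ext
  intro i
  rw [AlgHom.comp_apply, beta0_theta_X, hφ₀]

theorem beta0_G (hΛ : ∀ x : Λ, D.π ^ 2 • x = 0 → D.π • x = 0) (φ₀ : D.P0 →ₐ[R] Λ)
    (hφ₀ : ∀ i, φ₀ (X i) = algebraMap R Λ (D.r i) + D.π ^ 4 • lam i)
    (hrel : ∀ j, φ₀ (D.rel j) = 0) (k : Fin D.c) : D.beta0 lam (D.G k) = 0 := by
  have hcomp := D.beta0_comp_theta lam φ₀ hφ₀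
  have h1 : D.π ^ 3 • D.beta0 lam (D.G k) = 0 := by
    rw [Algebra.smul_def, ← beta0_C, ← map_mul, ← D.theta_rel_leading, ← AlgHom.comp_apply,
      hcomp, hrel]
  obtain ⟨tt, htt⟩ : ∃ tt : Λ, D.beta0 lam (D.G k) = D.π • tt := by
    refine ⟨∑ i, D.Mr k i • lam i + D.beta0 lam
      (C (D.b (Fin.castLE D.hcm k)) + D.ee (D.rel (Fin.castLE D.hcm k))), ?_⟩
    unfold G
    rw [map_add, map_add, map_mul, map_mul, beta0_inl, mul_zero, zero_add, map_sum, beta0_C,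
      ← Algebra.smul_def, smul_add, Finset.smul_sum]
    congr 1
    refine Finset.sum_congr rfl fun i _ => ?_
    rw [map_mul, beta0_C, beta0_inr, ← Algebra.smul_def, smul_comm]
  rw [htt, smul_smul] at h1
  have h2 : D.π ^ 2 • (D.π ^ 2 • tt) = 0 := by
    rw [smul_smul, ← h1]; congr 1; ring
  have h3 := hΛ _ h2
  have h4 : D.π ^ 2 • (D.π • tt) = 0 := by
    rw [smul_smul, ← h3, smul_smul]; congr 1; ring
  have h5 := hΛ _ h4
  have h6 : D.π ^ 2 • tt = 0 := by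
    rw [← h5, smul_smul, pow_two]
  rw [htt]
  exact hΛ _ h6

theorem IB_le_ker_beta0 (hΛ : ∀ x : Λ, D.π ^ 2 • x = 0 → D.π • x = 0) (φ₀ : D.P0 →ₐ[R] Λ)
    (hφ₀ : ∀ i, φ₀ (X i) = algebraMap R Λ (D.r i) + D.π ^ 4 • lam i)
    (hrel : ∀ j, φ₀ (D.rel j) = 0) : ∀ x ∈ D.IB, D.beta0 lam x = 0 := by
  have : D.IB ≤ RingHom.ker (D.beta0 lam).toRingHom := by
    unfold IB
    rw [Ideal.span_le]
    rintro _ ⟨(k | j), rfl⟩
    · exact D.beta0_G lam hΛ φ₀ hφ₀ hrel k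
    · show D.beta0 lam (D.theta (D.rel j)) = 0
      rw [← AlgHom.comp_apply, D.beta0_comp_theta lam φ₀ hφ₀, hrel]
  exact fun x hx => this hx

end Data

end Groth.Agent.H5.Des
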