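import Groth.Agent.Lib.Helper5.Des.W5

/-!
# Desingularization lemma (Stacks 07CQ), part W6: assembling the data and the final statement.
-/

set_option autoImplicit false
universe u
open MvPolynomial

namespace Groth.Agent.H5.Des

/-- Existence of the data. -/
theorem exists_data {R A : Type u} [CommRing R] [CommRing A] [Algebra R A] (π : R)
    (P : Smoothing.MarkedPresentation R A)
    (hspan : algebraMap R A π ∈ Ideal.span (Set.range fun cols : Fin P.c → Fin P.n =>
        P.hom (Smoothing.jacobianMinor P.rel (Fin.castLE P.hcm) cols)))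
    (hkill : Smoothing.KillsTail P (algebraMap R A π))
    (r : Fin P.n → R)
    (hr : ∀ q : MvPolynomial (Fin P.n) R, P.hom q = 0 → eval r q ∈ Ideal.span {π ^ 4}) :
    ∃ (S : Matrix (Fin P.n) (Fin P.c) R) (t : R) (b : Fin P.m → R)
      (AI : (Fin P.c → Fin P.n) → MvPolynomial (Fin P.n) R),
      (∀ j, eval r (P.rel j) = π ^ 4 * b j) ∧
      (∀ k k', ∑ i, eval r (pderiv i (P.rel (Fin.castLE P.hcm k))) * S i k' =
        if k = k' then (1 - π ^ 3 * t) * π else 0) ∧
      (C π - ∑ cols, AI cols * Smoothing.jacobianMinor P.rel (Fin.castLE P.hcm) cols ∈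
        Ideal.span (Set.range P.rel)) ∧
      ∀ j, C π * P.rel j ∈
        Ideal.span (Set.range (P.rel ∘ Fin.castLE P.hcm)) ⊔ Ideal.span (Set.range P.rel) ^ 2 := by
  classical
  have hker : ∀ q, P.hom q = 0 ↔ q ∈ Ideal.span (Set.range P.rel) := fun q => by
    rw [← P.ker_eq]; rfl
  have hCπ : P.hom (C π) = algebraMap R A π := by
    rw [← MvPolynomial.algebraMap_eq, P.hom.commutes]
  -- b
  have hbex : ∀ j, ∃ b : R, eval r (P.rel j) = π ^ 4 * b := by
    intro j
    have := hr (P.rel j) ((hker _).mpr (Ideal.subset_span ⟨j, rfl⟩))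
    obtain ⟨b, hb⟩ := Ideal.mem_span_singleton'.mp this
    exact ⟨b, by rw [← hb, mul_comm]⟩
  choose b hb using hbex
  -- AI
  obtain ⟨cf, hcf⟩ := (Ideal.mem_span_range_iff_exists_fun).mp hspan
  choose AI hAIhom using fun cols => P.surj (cf cols)
  have hAI : C π - ∑ cols, AI cols * Smoothing.jacobianMinor P.rel (Fin.castLE P.hcm) cols ∈
      Ideal.span (Set.range P.rel) := by
    rw [← hker, map_sub, map_sum, hCπ, ← hcf, sub_eq_zero]
    refine Finset.sum_congr rfl fun cols _ => ?_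
    rw [map_mul, hAIhom]
  -- t
  set M : Matrix (Fin P.c) (Fin P.n) R :=
    Matrix.of fun k i => eval r (pderiv i (P.rel (Fin.castLE P.hcm k))) with hM
  have hminor : ∀ cols : Fin P.c → Fin P.n,
      eval r (Smoothing.jacobianMinor P.rel (Fin.castLE P.hcm) cols) =
        (M.submatrix id cols).det := by
    intro cols
    unfold Smoothing.jacobianMinor
    rw [RingHom.map_det]
    rfl
  obtain ⟨t, ht⟩ : ∃ t : R, eval r (C π - ∑ cols, AI cols *
      Smoothing.jacobianMinor P.rel (Fin.castLE P.hcm) cols) = π ^ 4 * t := by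
    have := hr _ ((hker _).mpr hAI)
    obtain ⟨t, ht⟩ := Ideal.mem_span_singleton'.mp this
    exact ⟨t, by rw [← ht, mul_comm]⟩
  rw [map_sub, eval_C, map_sum] at ht
  have ht' : ∑ cols, eval r (AI cols) * (M.submatrix id cols).det = (1 - π ^ 3 * t) * π := by
    have : ∑ cols, eval r (AI cols) * (M.submatrix id cols).det =
        ∑ cols, eval r (AI cols * Smoothing.jacobianMinor P.rel (Fin.castLE P.hcm) cols) :=
      Finset.sum_congr rfl fun cols _ => by rw [map_mul, hminor]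
    rw [this]
    have e2 : ∑ cols, eval r (AI cols * Smoothing.jacobianMinor P.rel (Fin.castLE P.hcm) cols) =
        π - π ^ 4 * t := by
      rw [← ht]; ring
    rw [e2]; ring
  obtain ⟨S, hS⟩ := exists_right_inverse_scaled M (fun cols => eval r (AI cols))
  rw [ht'] at hS
  have hMS : ∀ k k', ∑ i, eval r (pderiv i (P.rel (Fin.castLE P.hcm k))) * S i k' =
      if k = k' then (1 - π ^ 3 * t) * π else 0 := by
    intro k k'
    have := congrFun (congrFun hS k) k'
    rw [Matrix.mul_apply, Matrix.smul_apply, Matrix.one_apply, smul_eq_mul, mul_ite, mul_one,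
      mul_zero] at this
    exact this
  -- kills tail
  have hkt : ∀ j, C π * P.rel j ∈
      Ideal.span (Set.range (P.rel ∘ Fin.castLE P.hcm)) ⊔ Ideal.span (Set.range P.rel) ^ 2 := by
    intro j
    by_cases hj : (j : ℕ) < P.c
    · refine Ideal.mem_sup_left (Ideal.mul_mem_left _ _ (Ideal.subset_span ⟨⟨j, hj⟩, ?_⟩))
      show P.rel (Fin.castLE P.hcm ⟨j, hj⟩) = P.rel j
      congr 1
    · have := hkill (C π) hCπ j (not_lt.mp hj)
      have hle : Ideal.span (P.rel '' {j' : Fin P.m | (j' : ℕ) < P.c}) ≤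
          Ideal.span (Set.range (P.rel ∘ Fin.castLE P.hcm)) := by
        refine Ideal.span_mono ?_
        rintro _ ⟨j', hj', rfl⟩
        refine ⟨⟨j', hj'⟩, ?_⟩
        show P.rel (Fin.castLE P.hcm ⟨j', hj'⟩) = P.rel j'
        congr 1
      exact (sup_le_sup_right hle (Ideal.span (Set.range P.rel) ^ 2)) this
  exact ⟨S, t, b, AI, hb, hMS, hAI, hkt⟩

/-- The desingularization lemma for given data. -/
theorem final_of_data {R : Type u} [CommRing R] (D : Data R) {A Λ : Type u} [CommRing A]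
    [Algebra R A] [CommRing Λ] [Algebra R Λ] (hom : D.P0 →ₐ[R] A)
    (hsurj : Function.Surjective hom)
    (hker : ∀ q, hom q = 0 ↔ q ∈ Ideal.span (Set.range D.rel)) (φ : A →ₐ[R] Λ)
    (hΛ : ∀ x : Λ, D.π ^ 2 • x = 0 → D.π • x = 0) (lam : Fin D.n → Λ)
    (hlam : ∀ i, φ (hom (X i)) = algebraMap R Λ (D.r i) + D.π ^ 4 • lam i) :
    ∃ (B : Type u) (_ : CommRing B) (_ : Algebra R B), Algebra.FinitePresentation R B ∧
      ∃ (α : A →ₐ[R] B) (β : B →ₐ[R] Λ), β.comp α = φ ∧
        ∀ r₀ : R, (∀ x : R, D.π ^ 2 * x = 0 → D.π * (r₀ * x) = 0) →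
          algebraMap R B r₀ ∈ Smoothing.singularIdeal R B := by
  classical
  refine ⟨D.P' ⧸ D.IB, inferInstance, inferInstance, inferInstance, ?_⟩
  set φ₀ : D.P0 →ₐ[R] Λ := φ.comp hom with hφ₀def
  have hφ₀ : ∀ i, φ₀ (X i) = algebraMap R Λ (D.r i) + D.π ^ 4 • lam i := fun i => hlam i
  have hrel : ∀ j, φ₀ (D.rel j) = 0 := by
    intro j
    show φ (hom (D.rel j)) = 0
    rw [(hker _).mpr (Ideal.subset_span ⟨j, rfl⟩), map_zero]
  -- β
  let β : D.P' ⧸ D.IB →ₐ[R] Λ := Ideal.Quotient.liftₐ D.IB (D.beta0 lam)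
    (D.IB_le_ker_beta0 lam hΛ φ₀ hφ₀ hrel)
  have hβ : ∀ q, β (Ideal.Quotient.mk D.IB q) = D.beta0 lam q := fun q => rfl
  -- α
  let α₀ : D.P0 →ₐ[R] D.P' ⧸ D.IB := (Ideal.Quotient.mkₐ R D.IB).comp D.theta
  have hα₀ : ∀ q, α₀ q = Ideal.Quotient.mk D.IB (D.theta q) := fun q => rfl
  have hI : ∀ x ∈ RingHom.ker hom.toRingHom, α₀ x = 0 := by
    intro x hx
    rw [hα₀, Ideal.Quotient.eq_zero_iff_mem]
    exact D.theta_mem_IB ((hker x).mp hx)
  let α : A →ₐ[R] D.P' ⧸ D.IB :=
    (Ideal.Quotient.liftₐ (RingHom.ker hom.toRingHom) α₀ hI).comp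
      (Ideal.quotientKerAlgEquivOfSurjective hsurj).symm.toAlgHom
  have hα : ∀ q, α (hom q) = α₀ q := by
    intro q
    show (Ideal.Quotient.liftₐ (RingHom.ker hom.toRingHom) α₀ hI)
      ((Ideal.quotientKerAlgEquivOfSurjective hsurj).symm (hom q)) = α₀ q
    have : (Ideal.quotientKerAlgEquivOfSurjective hsurj).symm (hom q) =
        Ideal.Quotient.mk _ q := by
      rw [AlgEquiv.symm_apply_eq, Ideal.quotientKerAlgEquivOfSurjective_mk]
    rw [this]
    rfl
  refine ⟨α, β, ?_, ?_⟩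
  · apply AlgHom.ext
    intro a
    obtain ⟨q, rfl⟩ := hsurj a
    rw [AlgHom.comp_apply, hα, hα₀, hβ, ← AlgHom.comp_apply, D.beta0_comp_theta lam φ₀ hφ₀]
    rfl
  · intro r₀ hr₀
    unfold Smoothing.singularIdeal
    rw [PrimeSpectrum.mem_vanishingIdeal]
    intro x hx
    by_contra hnot
    apply hx
    show Algebra.IsSmoothAt R x.asIdeal
    have hnot' : Ideal.Quotient.mk D.IB (C r₀) ∉ x.asIdeal := hnot
    by_cases hπ : Ideal.Quotient.mk D.IB (C D.π) ∈ x.asIdeal
    · exact D.isSmoothAt_of_pi_mem x.asIdeal hπ r₀ hr₀ hnot'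
    · exact D.isSmoothAt_of_pi_notMem x.asIdeal hπ

end Groth.Agent.H5.Des
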