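import Groth.Agent.Lib.Helper5.Des.W1c
import Groth.Agent.Lib.Helper5.Pop.V7

/-!
# Relative desingularization lemma (Stacks 07CR), part X1: auxiliary lemmas.
-/

set_option autoImplicit false
universe u

namespace Groth.Agent.H5.Des

/-- Smoothness at a point is stable under composition. -/
theorem isSmoothAt_comp {R D B : Type*} [CommRing R] [CommRing D] [CommRing B] [Algebra R D]
    [Algebra D B] [Algebra R B] [IsScalarTower R D B] (q' : Ideal B) [q'.IsPrime]
    (h1 : Algebra.IsSmoothAt D q')
    (h2 : Algebra.IsSmoothAt R (q'.comap (algebraMap D B))) : Algebra.IsSmoothAt R q' := by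
  set q : Ideal D := q'.comap (algebraMap D B) with hq
  letI : Algebra (Localization.AtPrime q) (Localization.AtPrime q') :=
    (Localization.localRingHom q q' (algebraMap D B) rfl).toAlgebra
  haveI : IsScalarTower D (Localization.AtPrime q) (Localization.AtPrime q') := by
    refine IsScalarTower.of_algebraMap_eq fun x => ?_
    show _ = Localization.localRingHom q q' (algebraMap D B) rfl (algebraMap D _ x)
    rw [Localization.localRingHom_to_map, ← IsScalarTower.algebraMap_apply]
  haveI : IsScalarTower R (Localization.AtPrime q) (Localization.AtPrime q') := by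
    refine IsScalarTower.of_algebraMap_eq fun r => ?_
    rw [IsScalarTower.algebraMap_apply R D (Localization.AtPrime q'),
      IsScalarTower.algebraMap_apply R D (Localization.AtPrime q),
      ← IsScalarTower.algebraMap_apply D (Localization.AtPrime q) (Localization.AtPrime q')]
  haveI : Algebra.FormallySmooth D (Localization.AtPrime q') := h1
  haveI : Algebra.FormallySmooth R (Localization.AtPrime q) := h2
  haveI : Algebra.FormallySmooth (Localization.AtPrime q) (Localization.AtPrime q') :=
    Algebra.FormallySmooth.localization_base q.primeCompl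
  exact Algebra.FormallySmooth.comp R (Localization.AtPrime q) (Localization.AtPrime q')

/-- At a smooth point `q` of `D` over `R`, some `r₀ ∉ q` multiplies the annihilator of `π²` into
the annihilator of `π`. -/
theorem exists_mult_of_isSmoothAt {R D : Type u} [CommRing R] [CommRing D] [Algebra R D]
    [IsNoetherianRing D] [Algebra.FinitePresentation R D] (π : R)
    (hR : ∀ r : R, π ^ 2 * r = 0 → π * r = 0) (q : Ideal D) [q.IsPrime]
    (hq : Algebra.IsSmoothAt R q) :
    ∃ r₀ : D, r₀ ∉ q ∧ ∀ y : D, algebraMap R D π ^ 2 * y = 0 →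
      algebraMap R D π * (r₀ * y) = 0 := by
  classical
  haveI := hq
  obtain ⟨f, hfq, hf⟩ := Algebra.IsSmoothAt.exists_notMem_smooth R q
  haveI : Module.Flat R (Localization.Away f) := inferInstance
  haveI : Module.Flat R (Localization.AtPrime q) := flat_atPrime_of_flat_away f q hfq
  set N : Ideal D := LinearMap.ker (LinearMap.mulLeft D (algebraMap R D π ^ 2)) with hN
  have hNmem : ∀ y, y ∈ N ↔ algebraMap R D π ^ 2 * y = 0 := fun y => by
    rw [hN, LinearMap.mem_ker, LinearMap.mulLeft_apply]
  obtain ⟨s, hs⟩ := (IsNoetherian.noetherian N : N.FG)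
  have hsx : ∀ x ∈ s, ∃ t : D, t ∉ q ∧ t * (algebraMap R D π * x) = 0 := by
    intro x hx
    have hxN : x ∈ N := by rw [← hs]; exact Submodule.subset_span hx
    have h1 : π ^ 2 • algebraMap D (Localization.AtPrime q) x = 0 := by
      rw [Algebra.smul_def, IsScalarTower.algebraMap_apply R D (Localization.AtPrime q),
        ← map_mul, map_pow, (hNmem x).mp hxN, map_zero]
    have h2 := Pop.smul_eq_zero_of_sq_smul_eq_zero π hR _ h1
    rw [Algebra.smul_def, IsScalarTower.algebraMap_apply R D (Localization.AtPrime q),
      ← map_mul, IsLocalization.map_eq_zero_iff q.primeCompl] at h2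
    obtain ⟨t, ht⟩ := h2
    exact ⟨t.1, t.2, ht⟩
  choose! tt htt using hsx
  refine ⟨∏ x ∈ s, tt x, ?_, ?_⟩
  · intro h
    obtain ⟨x, hx, hxq⟩ := (Ideal.IsPrime.prod_mem_iff (hp := ‹q.IsPrime›)).mp h
    exact (htt x hx).1 hxq
  · intro y hy
    have hyN : y ∈ N := (hNmem y).mpr hy
    rw [← hs] at hyN
    refine Submodule.span_induction ?_ ?_ ?_ ?_ hyN
    · intro x hx
      have hx' : x ∈ s := hx
      rw [← Finset.mul_prod_erase s tt hx']
      have := (htt x hx').2
      have e : algebraMap R D π * ((tt x * ∏ z ∈ s.erase x, tt z) * x)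
          = (∏ z ∈ s.erase x, tt z) * (tt x * (algebraMap R D π * x)) := by ring
      rw [e, this, mul_zero]
    · rw [mul_zero, mul_zero]
    · intro a b _ _ ha hb
      rw [mul_add, mul_add, ha, hb, add_zero]
    · intro a b _ hb
      have e : algebraMap R D π * ((∏ x ∈ s, tt x) * (a • b)) =
          a * (algebraMap R D π * ((∏ x ∈ s, tt x) * b)) := by rw [smul_eq_mul]; ring
      rw [e, hb, mul_zero]

end Groth.Agent.H5.Des
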