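import Groth.Agent.Lib.Helper5.Des.X1
import Groth.Agent.Lib.Helper8.StdEl.O
import Groth.Agent.S2027

/-!
# Relative desingularization lemma (Stacks 07CR), part X2.
-/

set_option autoImplicit false
universe u
open TensorProduct

namespace Groth.Agent.H5.Des

set_option maxHeartbeats 1000000 in
/-- Relative desingularization lemma, with `Λ` a `D`-algebra. -/
theorem rel_desing {R Λ A D : Type u} [CommRing R] [IsNoetherianRing R] [CommRing Λ] [Algebra R Λ]
    (π : R) (hR : ∀ r : R, π ^ 2 * r = 0 → π * r = 0) (hΛ : ∀ x : Λ, π ^ 2 • x = 0 → π • x = 0)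
    [CommRing A] [Algebra R A] [Algebra.FinitePresentation R A] [CommRing D] [Algebra R D]
    [Algebra.FinitePresentation R D] [Algebra D Λ] [IsScalarTower R D Λ]
    (φ : A →ₐ[R] Λ) (hπ : Smoothing.IsStrictlyStandard R A (algebraMap R A π))
    (ψ : A →ₐ[R] D ⧸ Ideal.span {algebraMap R D (π ^ 4)})
    (hψ : ∀ (a : A) (d : D), Ideal.Quotient.mk (Ideal.span {algebraMap R D (π ^ 4)}) d = ψ a →
      algebraMap D Λ d - φ a ∈ Ideal.span {algebraMap R Λ (π ^ 4)}) :
    ∃ (B : Type u) (_ : CommRing B) (_ : Algebra R B) (_ : Algebra D B) (_ : IsScalarTower R D B),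
      Algebra.FinitePresentation R B ∧
      ∃ (α : A →ₐ[R] B) (β : B →ₐ[R] Λ), β.comp α = φ ∧
        β.comp (IsScalarTower.toAlgHom R D B) = IsScalarTower.toAlgHom R D Λ ∧
        (Smoothing.singularIdeal R D).map (algebraMap D B) ≤ Smoothing.singularIdeal D B ∧
        (Smoothing.singularIdeal R D).map (algebraMap D B) ≤ Smoothing.singularIdeal R B := by
  classical
  haveI : IsNoetherianRing D := Algebra.FiniteType.isNoetherianRing R D
  set πD : D := algebraMap R D π with hπD
  have hπDΛ : ∀ k : ℕ, algebraMap D Λ (πD ^ k) = algebraMap R Λ (π ^ k) := by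
    intro k
    rw [hπD, ← map_pow, ← IsScalarTower.algebraMap_apply]
  -- strictly standard
  have hπ' : Smoothing.IsStrictlyStandard D (D ⊗[R] A) (algebraMap D (D ⊗[R] A) πD) := by
    have h := (H8.StdEl.isStandard_baseChange (R := R) (A := A) (R' := D) (algebraMap R A π)).2 hπ
    have e : algebraMap D (D ⊗[R] A) πD = (1 : D) ⊗ₜ[R] algebraMap R A π := by
      rw [Algebra.TensorProduct.algebraMap_apply, Algebra.algebraMap_self, RingHom.id_apply, hπD,
        Algebra.algebraMap_eq_smul_one, Algebra.algebraMap_eq_smul_one, TensorProduct.smul_tmul]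
    rw [e]
    exact h
  have hΛ' : ∀ x : Λ, πD ^ 2 • x = 0 → πD • x = 0 := by
    intro x hx
    rw [Algebra.smul_def, hπDΛ 2, ← Algebra.smul_def] at hx
    have := hΛ x hx
    rw [Algebra.smul_def, ← pow_one πD, hπDΛ 1, pow_one, ← Algebra.smul_def]
    exact this
  -- the maps
  let φ' : D ⊗[R] A →ₐ[D] Λ :=
    Algebra.TensorProduct.lift (Algebra.ofId D Λ) φ (fun _ _ => Commute.all _ _)
  have hφ' : ∀ (d : D) (a : A), φ' (d ⊗ₜ[R] a) = algebraMap D Λ d * φ a := fun d a => by
    show Algebra.TensorProduct.lift (Algebra.ofId D Λ) φ (fun _ _ => Commute.all _ _) (d ⊗ₜ a) = _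
    rw [Algebra.TensorProduct.lift_tmul]; rfl
  have hJ : Ideal.span {algebraMap R D (π ^ 4)} = Ideal.span {πD ^ 4} := by
    rw [hπD, map_pow]
  let ψ' : A →ₐ[R] D ⧸ Ideal.span {πD ^ 4} := (Ideal.quotientEquivAlgOfEq R hJ).toAlgHom.comp ψ
  have hψ' : ∀ (a : A) (d : D), Ideal.Quotient.mk (Ideal.span {πD ^ 4}) d = ψ' a →
      algebraMap D Λ d - φ a ∈ Ideal.span {algebraMap R Λ (π ^ 4)} := by
    intro a d hd
    apply hψ a d
    have h1 : ψ' a = Ideal.quotientEquivAlgOfEq R hJ (ψ a) := rfl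
    rw [h1] at hd
    have h2 : Ideal.quotientEquivAlgOfEq R hJ
        (Ideal.Quotient.mk (Ideal.span {algebraMap R D (π ^ 4)}) d) =
        Ideal.Quotient.mk (Ideal.span {πD ^ 4}) d := Ideal.quotientEquivAlgOfEq_mk R hJ d
    rw [← h2] at hd
    exact (Ideal.quotientEquivAlgOfEq R hJ).injective hd
  let ρ' : D ⊗[R] A →ₐ[D] D ⧸ Ideal.span {πD ^ 4} :=
    Algebra.TensorProduct.lift (Algebra.ofId D _) ψ' (fun _ _ => Commute.all _ _)
  have hρ'tmul : ∀ (d : D) (a : A), ρ' (d ⊗ₜ[R] a) =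
      Ideal.Quotient.mk (Ideal.span {πD ^ 4}) d * ψ' a := fun d a => by
    show Algebra.TensorProduct.lift (Algebra.ofId D _) ψ' (fun _ _ => Commute.all _ _) (d ⊗ₜ a) = _
    rw [Algebra.TensorProduct.lift_tmul]; rfl
  have hJΛ : Ideal.span {algebraMap D Λ (πD ^ 4)} = Ideal.span {algebraMap R Λ (π ^ 4)} := by
    rw [hπDΛ 4]
  have hρ'ex : ∀ a : D ⊗[R] A, ∃ d₀ : D, Ideal.Quotient.mk (Ideal.span {πD ^ 4}) d₀ = ρ' a ∧
      algebraMap D Λ d₀ - φ' a ∈ Ideal.span {algebraMap R Λ (π ^ 4)} := by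
    intro a
    induction a using TensorProduct.induction_on with
    | zero => exact ⟨0, by rw [map_zero, map_zero], by rw [map_zero, map_zero, sub_zero]; exact Ideal.zero_mem _⟩
    | tmul d a =>
      obtain ⟨da, hda⟩ := Ideal.Quotient.mk_surjective (ψ' a)
      refine ⟨d * da, ?_, ?_⟩
      · rw [map_mul, hda, hρ'tmul]
      · rw [hφ', map_mul, ← mul_sub]
        exact Ideal.mul_mem_left _ _ (hψ' a da hda)
    | add x y hx hy =>
      obtain ⟨dx, hdx, hdx'⟩ := hx
      obtain ⟨dy, hdy, hdy'⟩ := hy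
      refine ⟨dx + dy, by rw [map_add, map_add, hdx, hdy], ?_⟩
      rw [map_add, map_add, add_sub_add_comm]
      exact Ideal.add_mem _ hdx' hdy'
  have hρ' : ∀ (a : D ⊗[R] A) (d : D), Ideal.Quotient.mk (Ideal.span {πD ^ 4}) d = ρ' a →
      algebraMap D Λ d - φ' a ∈ Ideal.span {algebraMap D Λ (πD ^ 4)} := by
    intro a d hd
    obtain ⟨d₀, hd₀, hd₀'⟩ := hρ'ex a
    rw [hJΛ]
    have h1 : d - d₀ ∈ Ideal.span {πD ^ 4} := by
      rw [← Ideal.Quotient.eq, hd, hd₀]
    obtain ⟨z, hz⟩ := Ideal.mem_span_singleton'.mp h1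
    have h2 : algebraMap D Λ d - φ' a =
        algebraMap D Λ z * algebraMap R Λ (π ^ 4) + (algebraMap D Λ d₀ - φ' a) := by
      rw [← hπDΛ 4, ← map_mul, hz, map_sub]; ring
    rw [h2]
    exact Ideal.add_mem _ (Ideal.mul_mem_left _ _ (Ideal.subset_span rfl)) hd₀'
  obtain ⟨B, instB, algDB, hfp, α', β', hβα, hsing⟩ :=
    Groth.Agent.S2027.result (R := D) (Λ := Λ) (A := D ⊗[R] A) πD hΛ' φ' hπ' ρ' hρ'
  letI : Algebra R B := Algebra.compHom B (algebraMap R D)
  haveI : IsScalarTower R D B := IsScalarTower.of_algebraMap_eq (fun r => rfl)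
  haveI : Algebra.FinitePresentation R B := Algebra.FinitePresentation.trans R D B
  refine ⟨B, instB, inferInstance, algDB, inferInstance, inferInstance, ?_⟩
  refine ⟨(α'.restrictScalars R).comp
    (Algebra.TensorProduct.includeRight : A →ₐ[R] D ⊗[R] A), β'.restrictScalars R, ?_, ?_, ?_⟩
  · apply AlgHom.ext
    intro a
    show β' (α' ((1 : D) ⊗ₜ[R] a)) = φ a
    rw [← AlgHom.comp_apply, hβα, hφ', map_one, one_mul]
  · apply AlgHom.ext
    intro d
    show β' (algebraMap D B d) = algebraMap D Λ d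
    rw [β'.commutes]
  · -- the singular ideals
    have key : ∀ q' : PrimeSpectrum B, ∀ x ∈ Smoothing.singularIdeal R D,
        algebraMap D B x ∉ q'.asIdeal →
          Algebra.IsSmoothAt R (q'.asIdeal.comap (algebraMap D B)) ∧
            Algebra.IsSmoothAt D q'.asIdeal := by
      intro q' x hx hxq'
      have hq : Algebra.IsSmoothAt R (q'.asIdeal.comap (algebraMap D B)) := by
        by_contra hns
        apply hxq'
        unfold Smoothing.singularIdeal at hx
        rw [PrimeSpectrum.mem_vanishingIdeal] at hx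
        exact hx ⟨q'.asIdeal.comap (algebraMap D B), inferInstance⟩ hns
      refine ⟨hq, ?_⟩
      obtain ⟨r₀, hr₀q, hr₀⟩ := exists_mult_of_isSmoothAt π hR _ hq
      have h1 := hsing r₀ hr₀
      unfold Smoothing.singularIdeal at h1
      rw [PrimeSpectrum.mem_vanishingIdeal] at h1
      by_contra hns
      exact hr₀q (h1 q' hns)
    constructor
    · rw [Ideal.map_le_iff_le_comap]
      intro x hx
      rw [Ideal.mem_comap]
      unfold Smoothing.singularIdeal
      rw [PrimeSpectrum.mem_vanishingIdeal]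
      intro q' hq'
      by_contra hnot
      exact hq' (key q' x hx hnot).2
    · rw [Ideal.map_le_iff_le_comap]
      intro x hx
      rw [Ideal.mem_comap]
      unfold Smoothing.singularIdeal
      rw [PrimeSpectrum.mem_vanishingIdeal]
      intro q' hq'
      by_contra hnot
      obtain ⟨h1, h2⟩ := key q' x hx hnot
      exact hq' (isSmoothAt_comp q'.asIdeal h2 h1)

end Groth.Agent.H5.Des
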