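import Groth.Agent.Lib.Helper5.Pop.V10
import Groth.Agent.S2028

/-!
# Stacks 07CS-type lemma (S19959): lifting lemma + relative desingularization.
-/

set_option autoImplicit false
universe u

namespace Groth.Agent.H5.Des

/-- iterating the annihilator condition. -/
theorem smul_eq_zero_of_pow_smul_eq_zero {R M : Type*} [CommRing R] [AddCommGroup M] [Module R M]
    (π : R) (h : ∀ x : M, π ^ 2 • x = 0 → π • x = 0) (k : ℕ) (x : M)
    (hx : π ^ (k + 1) • x = 0) : π • x = 0 := by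
  induction k with
  | zero => simpa using hx
  | succ k ih =>
    apply ih
    have h1 : π ^ 2 • (π ^ k • x) = 0 := by
      rw [smul_smul, ← hx]; congr 1; ring
    have h2 := h _ h1
    rw [smul_smul] at h2
    rw [← h2]; congr 1; ring

/-- the singular ideal is contained in a prime iff the algebra is not smooth there. -/
theorem singularIdeal_le_iff {R A : Type u} [CommRing R] [CommRing A] [Algebra R A]
    [Algebra.FinitePresentation R A] (q : Ideal A) [q.IsPrime] :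
    Smoothing.singularIdeal R A ≤ q ↔ ¬ Algebra.IsSmoothAt R q := by
  constructor
  · intro hle hsm
    haveI := hsm
    obtain ⟨f, hfq, hf⟩ := Algebra.IsSmoothAt.exists_notMem_smooth R q
    have hsub := (Algebra.basicOpen_subset_smoothLocus_iff_smooth (R := R) (A := A) (f := f)).mpr hf
    apply hfq
    apply hle
    unfold Smoothing.singularIdeal
    rw [PrimeSpectrum.mem_vanishingIdeal]
    intro x hx
    by_contra hfx
    exact hx (hsub hfx)
  · intro hns x hx
    unfold Smoothing.singularIdeal at hx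
    rw [PrimeSpectrum.mem_vanishingIdeal] at hx
    exact hx ⟨q, inferInstance⟩ hns

/-- The lifting lemma with a name for `π²`. -/
theorem lifting_lemma' {R Λ S : Type u} [CommRing R] [IsNoetherianRing R] [CommRing Λ]
    [Algebra R Λ] (π π2 : R) (h2 : π2 = π ^ 2) (hR : ∀ r : R, π ^ 2 * r = 0 → π * r = 0)
    (hΛ : ∀ x : Λ, π ^ 2 • x = 0 → π • x = 0) [CommRing S] [Algebra R S]
    [Algebra (R ⧸ Ideal.span {π2}) S] [IsScalarTower R (R ⧸ Ideal.span {π2}) S]
    [Algebra.FinitePresentation (R ⧸ Ideal.span {π2}) S]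
    (g : S →ₐ[R] Λ ⧸ Ideal.span {algebraMap R Λ π2}) :
    ∃ (D : Type u) (_ : CommRing D) (_ : Algebra R D), Algebra.FinitePresentation R D ∧
      ∃ (δ : D →ₐ[R] Λ) (ψ : S →ₐ[R] D ⧸ Ideal.span {algebraMap R D π}),
        (∀ (c : S) (d : D) (l : Λ), Ideal.Quotient.mk (Ideal.span {algebraMap R D π}) d = ψ c →
          Ideal.Quotient.mk (Ideal.span {algebraMap R Λ π2}) l = g c →
            δ d - l ∈ Ideal.span {algebraMap R Λ π}) ∧
        (∀ (Q : Ideal D) [Q.IsPrime], algebraMap R D π ∉ Q → Algebra.IsSmoothAt R Q) ∧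
        (∀ (Q : Ideal (D ⧸ Ideal.span {algebraMap R D π})) [Q.IsPrime],
          Algebra.IsSmoothAt (R ⧸ Ideal.span {π2}) (Q.comap ψ) →
            Algebra.IsSmoothAt R (Q.comap (Ideal.Quotient.mk (Ideal.span {algebraMap R D π})))) := by
  subst h2
  exact Pop.lifting_lemma π hR hΛ g

set_option maxHeartbeats 1000000 in
theorem main19959 {R Λ A C : Type u} [CommRing R] [IsNoetherianRing R] [CommRing Λ]
    [Algebra R Λ] (π : R) (hR : ∀ r : R, π ^ 2 * r = 0 → π * r = 0)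
    (hΛ : ∀ x : Λ, π ^ 2 • x = 0 → π • x = 0) [CommRing A] [Algebra R A]
    [Algebra.FinitePresentation R A] (φ : A →ₐ[R] Λ)
    (hπ : Smoothing.IsStrictlyStandard R A (algebraMap R A π))
    [CommRing C] [Algebra R C] [Algebra (R ⧸ Ideal.span {π ^ 8}) C]
    [IsScalarTower R (R ⧸ Ideal.span {π ^ 8}) C]
    [Algebra.FinitePresentation (R ⧸ Ideal.span {π ^ 8}) C]
    (γ : A →ₐ[R] C) (g : C →ₐ[R] Λ ⧸ Ideal.span {algebraMap R Λ (π ^ 8)})
    (hfac : ∀ a : A, g (γ a) = Ideal.Quotient.mk (Ideal.span {algebraMap R Λ (π ^ 8)}) (φ a)) :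
    ∃ (B : Type u) (_ : CommRing B) (_ : Algebra R B), Algebra.FinitePresentation R B ∧
      ∃ (α : A →ₐ[R] B) (β : B →ₐ[R] Λ), β.comp α = φ ∧
        (∀ (Q : Ideal B) [Q.IsPrime], algebraMap R B π ∉ Q → Algebra.IsSmoothAt R Q) ∧
        (Smoothing.singularIdeal (R ⧸ Ideal.span {π ^ 8}) C).map g ≤
          ((Smoothing.singularIdeal R B).map β).radical.map
            (Ideal.Quotient.mk (Ideal.span {algebraMap R Λ (π ^ 8)})) := by
  classical
  have h8 : π ^ 8 = (π ^ 4) ^ 2 := by ring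
  have hR4 : ∀ r : R, (π ^ 4) ^ 2 * r = 0 → π ^ 4 * r = 0 := by
    intro r hr
    have h1 : π ^ (7 + 1) • r = 0 := by rw [smul_eq_mul, ← hr]; ring
    have h2 := smul_eq_zero_of_pow_smul_eq_zero π (fun x hx => hR x hx) 7 r h1
    rw [smul_eq_mul] at h2
    rw [show π ^ 4 * r = π ^ 3 * (π * r) by ring, h2, mul_zero]
  have hΛ4 : ∀ x : Λ, (π ^ 4) ^ 2 • x = 0 → π ^ 4 • x = 0 := by
    intro x hx
    have e : π ^ (7 + 1) = (π ^ 4) ^ 2 := by ring
    have h1 : π ^ (7 + 1) • x = 0 := by rw [e]; exact hx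
    have h2 := smul_eq_zero_of_pow_smul_eq_zero π hΛ 7 x h1
    rw [show π ^ 4 = π ^ 3 * π by ring, ← smul_smul, h2, smul_zero]
  obtain ⟨D, iD1, iD2, hDfp, δ, ψ, hcompat, hb, hc⟩ :=
    lifting_lemma' (π ^ 4) (π ^ 8) h8 hR4 hΛ4 g
  have hψA : ∀ (a : A) (d : D),
      Ideal.Quotient.mk (Ideal.span {algebraMap R D (π ^ 4)}) d = (ψ.comp γ) a →
        δ d - φ a ∈ Ideal.span {algebraMap R Λ (π ^ 4)} :=
    fun a d hd => hcompat (γ a) d (φ a) hd (hfac a).symm
  obtain ⟨B, iB1, iB2, iB3, iB4, hBfp, α, β, hβα, hβδ, hs1, hs2⟩ :=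
    Groth.Agent.S2028.result π hR hΛ φ δ hπ (ψ.comp γ) hψA
  have hδ : ∀ d : D, β (algebraMap D B d) = δ d := fun d => by
    rw [← hβδ]; rfl
  -- (1)
  have part1 : ∀ (Q : Ideal B) [Q.IsPrime], algebraMap R B π ∉ Q → Algebra.IsSmoothAt R Q := by
    intro Q _ hπQ
    by_contra hns
    have hle := (singularIdeal_le_iff (R := R) Q).mpr hns
    have hq : Algebra.IsSmoothAt R (Q.comap (algebraMap D B)) := by
      apply hb
      intro h
      rw [Ideal.mem_comap, ← IsScalarTower.algebraMap_apply, map_pow] at h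
      exact hπQ (Ideal.IsPrime.mem_of_pow_mem ‹_› _ h)
    apply (singularIdeal_le_iff (R := R) (Q.comap (algebraMap D B))).mp _ hq
    intro x hx
    rw [Ideal.mem_comap]
    exact hle (hs2 (Ideal.mem_map_of_mem _ hx))
  refine ⟨B, iB1, iB2, hBfp, α, β, hβα, part1, ?_⟩
  -- (2)
  have hπsing : algebraMap R B π ∈ Smoothing.singularIdeal R B := by
    unfold Smoothing.singularIdeal
    rw [PrimeSpectrum.mem_vanishingIdeal]
    intro x hx
    by_contra hnot
    exact hx (part1 x.asIdeal hnot)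
  rw [Ideal.map_le_iff_le_comap]
  intro x hx
  rw [Ideal.mem_comap]
  obtain ⟨l₀, hl₀⟩ := Ideal.Quotient.mk_surjective (g x)
  rw [Ideal.mem_map_iff_of_surjective _ Ideal.Quotient.mk_surjective]
  refine ⟨l₀, ?_, hl₀⟩
  rw [Ideal.radical_eq_sInf, Ideal.mem_sInf]
  rintro 𝔮 ⟨h𝔮le, h𝔮⟩
  haveI := h𝔮
  -- π ∈ 𝔮
  have hπ𝔮 : algebraMap R Λ π ∈ 𝔮 := by
    have := h𝔮le (Ideal.mem_map_of_mem β hπsing)
    rwa [β.commutes] at this
  -- the prime q of D
  set q : Ideal D := 𝔮.comap δ with hq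
  haveI : q.IsPrime := Ideal.comap_isPrime _ _
  have hqns : ¬ Algebra.IsSmoothAt R q := by
    rw [← singularIdeal_le_iff]
    intro y hy
    rw [hq, Ideal.mem_comap, ← hδ]
    exact h𝔮le (Ideal.mem_map_of_mem β (hs2 (Ideal.mem_map_of_mem _ hy)))
  have hπq : algebraMap R D (π ^ 4) ∈ q := by
    rw [hq, Ideal.mem_comap, δ.commutes, map_pow]
    exact Ideal.pow_mem_of_mem _ hπ𝔮 4 (by norm_num)
  -- the prime q̄ of D/π⁴
  set mk4 := Ideal.Quotient.mk (Ideal.span {algebraMap R D (π ^ 4)}) with hmk4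
  have hker : RingHom.ker mk4 ≤ q := by
    rw [hmk4, Ideal.mk_ker, Ideal.span_le]
    intro y hy
    rw [Set.mem_singleton_iff.mp hy]
    exact hπq
  haveI : (q.map mk4).IsPrime := Ideal.map_isPrime_of_surjective Ideal.Quotient.mk_surjective hker
  have hcomap : (q.map mk4).comap mk4 = q := by
    rw [Ideal.comap_map_of_surjective mk4 Ideal.Quotient.mk_surjective, sup_eq_left]
    exact hker
  have hCns : ¬ Algebra.IsSmoothAt (R ⧸ Ideal.span {π ^ 8}) ((q.map mk4).comap ψ) := by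
    intro hsm
    have h0 := hc (q.map mk4) hsm
    have htr : ∀ (I : Ideal D) [I.IsPrime], I = q → Algebra.IsSmoothAt R I →
        Algebra.IsSmoothAt R q := by
      intro I _ hI h
      subst hI
      exact h
    exact hqns (htr _ hcomap h0)
  have hxq : ψ x ∈ q.map mk4 :=
    (singularIdeal_le_iff (R := R ⧸ Ideal.span {π ^ 8}) ((q.map mk4).comap ψ)).mpr hCns hx
  obtain ⟨d, hd⟩ := Ideal.Quotient.mk_surjective (ψ x)
  have hdq : d ∈ q := by
    rw [← hcomap, Ideal.mem_comap, hmk4, hd]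
    exact hxq
  have h1 := hcompat x d l₀ hd hl₀
  have h2 : δ d - l₀ ∈ 𝔮 := by
    have : Ideal.span {algebraMap R Λ (π ^ 4)} ≤ 𝔮 := by
      rw [Ideal.span_le]
      intro y hy
      rw [Set.mem_singleton_iff.mp hy, map_pow]
      exact Ideal.pow_mem_of_mem _ hπ𝔮 4 (by norm_num)
    exact this h1
  have h3 : δ d ∈ 𝔮 := hdq
  have : l₀ = δ d - (δ d - l₀) := by ring
  rw [this]
  exact 𝔮.sub_mem h3 h2

end Groth.Agent.H5.Des
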