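import Groth.Agent.Lib.Helper8.StdEl.O

/-!
# Strictly standard elements pass to quotients (abstract form).
-/

set_option autoImplicit false
universe u
open MvPolynomial

namespace Groth.Agent.H5.Des

section
variable {R A R' A' : Type u} [CommRing R] [CommRing A] [Algebra R A] [CommRing R'] [CommRing A']
  [Algebra R R'] [Algebra R' A'] [Algebra A A'] [Algebra R A'] [IsScalarTower R R' A']
  [IsScalarTower R A A']

/-- the induced presentation map -/
noncomputable def qHom {n : ℕ} (Φ : MvPolynomial (Fin n) R →ₐ[R] A) :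
    MvPolynomial (Fin n) R' →ₐ[R'] A' :=
  aeval (fun i => algebraMap A A' (Φ (X i)))

theorem qHom_map {n : ℕ} (Φ : MvPolynomial (Fin n) R →ₐ[R] A) (p : MvPolynomial (Fin n) R) :
    qHom (R' := R') (A' := A') Φ (map (algebraMap R R') p) = algebraMap A A' (Φ p) := by
  have h : ((qHom (R' := R') (A' := A') Φ).restrictScalars R).comp
      (mapAlgHom (Algebra.ofId R R')) = (IsScalarTower.toAlgHom R A A').comp Φ := by
    apply MvPolynomial.algHom_ext
    intro i
    simp [qHom]
  exact congr($h p)

theorem qHom_surjective {n : ℕ} (Φ : MvPolynomial (Fin n) R →ₐ[R] A)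
    (hΦ : Function.Surjective Φ) (hA' : Function.Surjective (algebraMap A A')) :
    Function.Surjective (qHom (R' := R') (A' := A') Φ) := by
  intro y
  obtain ⟨a, rfl⟩ := hA' y
  obtain ⟨p, rfl⟩ := hΦ a
  exact ⟨map (algebraMap R R') p, qHom_map Φ p⟩

theorem ker_qHom {n m : ℕ} (Φ : MvPolynomial (Fin n) R →ₐ[R] A) (hΦ : Function.Surjective Φ)
    (f : Fin m → MvPolynomial (Fin n) R)
    (hker : RingHom.ker Φ.toRingHom = Ideal.span (Set.range f))
    (hR' : Function.Surjective (algebraMap R R'))
    (hkA : RingHom.ker (algebraMap A A') = (RingHom.ker (algebraMap R R')).map (algebraMap R A)) :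
    RingHom.ker (qHom (R' := R') (A' := A') Φ).toRingHom =
      Ideal.span (Set.range fun j => map (algebraMap R R') (f j)) := by
  have hf : ∀ j, Φ (f j) = 0 := fun j => by
    have : f j ∈ RingHom.ker Φ.toRingHom := by rw [hker]; exact Ideal.subset_span ⟨j, rfl⟩
    exact this
  apply le_antisymm
  · intro p' hp'
    obtain ⟨p, rfl⟩ := map_surjective (algebraMap R R') hR' p'
    have h0 : qHom (R' := R') (A' := A') Φ (map (algebraMap R R') p) = 0 := hp'
    rw [qHom_map] at h0
    have h1 : Φ p ∈ (RingHom.ker (algebraMap R R')).map (algebraMap R A) := by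
      rw [← hkA]; exact h0
    have key : ∀ x ∈ (RingHom.ker (algebraMap R R')).map (algebraMap R A),
        ∃ q : MvPolynomial (Fin n) R, Φ q = x ∧ map (algebraMap R R') q = 0 := by
      intro x hx
      refine Submodule.span_induction ?_ ?_ ?_ ?_ hx
      · rintro _ ⟨k, hk, rfl⟩
        refine ⟨C k, ?_, ?_⟩
        · rw [← MvPolynomial.algebraMap_eq, Φ.commutes]
        · rw [map_C]
          have : algebraMap R R' k = 0 := hk
          rw [this, C_0]
      · exact ⟨0, map_zero _, map_zero _⟩
      · rintro x y _ _ ⟨q₁, h₁, h₁'⟩ ⟨q₂, h₂, h₂'⟩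
        exact ⟨q₁ + q₂, by rw [map_add, h₁, h₂], by rw [map_add, h₁', h₂', add_zero]⟩
      · rintro a x _ ⟨q, h, h'⟩
        obtain ⟨qa, rfl⟩ := hΦ a
        exact ⟨qa * q, by rw [map_mul, h, smul_eq_mul], by rw [map_mul, h', mul_zero]⟩
    obtain ⟨q, hq, hq'⟩ := key _ h1
    have h2 : p - q ∈ Ideal.span (Set.range f) := by
      rw [← hker]
      show Φ (p - q) = 0
      rw [map_sub, hq, sub_self]
    have h3 := Ideal.mem_map_of_mem (map (algebraMap R R') : MvPolynomial (Fin n) R →+* _) h2
    rw [Ideal.map_span, ← Set.range_comp, map_sub, hq', sub_zero] at h3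
    exact h3
  · rw [Ideal.span_le]
    rintro _ ⟨j, rfl⟩
    show qHom Φ (map (algebraMap R R') (f j)) = 0
    rw [qHom_map, hf, map_zero]

/-- the induced marked presentation of a quotient -/
noncomputable def qPres (P : Smoothing.MarkedPresentation R A)
    (hR' : Function.Surjective (algebraMap R R')) (hA' : Function.Surjective (algebraMap A A'))
    (hkA : RingHom.ker (algebraMap A A') = (RingHom.ker (algebraMap R R')).map (algebraMap R A)) :
    Smoothing.MarkedPresentation R' A' where
  n := P.n
  m := P.m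
  c := P.c
  hcn := P.hcn
  hcm := P.hcm
  rel := fun j => map (algebraMap R R') (P.rel j)
  hom := qHom P.hom
  surj := qHom_surjective P.hom P.surj hA'
  ker_eq := ker_qHom P.hom P.surj P.rel P.ker_eq hR' hkA

theorem killsTail_q (P : Smoothing.MarkedPresentation R A)
    (hR' : Function.Surjective (algebraMap R R')) (hA' : Function.Surjective (algebraMap A A'))
    (hkA : RingHom.ker (algebraMap A A') = (RingHom.ker (algebraMap R R')).map (algebraMap R A))
    (a : A) (h : Smoothing.KillsTail P a) :
    Smoothing.KillsTail (qPres P hR' hA' hkA) (algebraMap A A' a) := by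
  show ∀ a' : MvPolynomial (Fin P.n) R', qHom P.hom a' = algebraMap A A' a → ∀ j : Fin P.m,
    P.c ≤ (j : ℕ) → a' * map (algebraMap R R') (P.rel j) ∈
      Ideal.span ((fun j => map (algebraMap R R') (P.rel j)) '' {j' : Fin P.m | (j' : ℕ) < P.c}) ⊔
        Ideal.span (Set.range fun j => map (algebraMap R R') (P.rel j)) ^ 2
  intro a₁' ha₁' j hj
  obtain ⟨a₁, ha₁⟩ := P.surj a
  have h1 := h a₁ ha₁ j hj
  have h2 := Ideal.mem_map_of_mem (map (algebraMap R R') : MvPolynomial (Fin P.n) R →+* _) h1
  rw [Ideal.map_sup, Ideal.map_pow, Ideal.map_span, Ideal.map_span, map_mul, Set.image_image,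
    ← Set.range_comp] at h2
  have h3 : a₁' - map (algebraMap R R') a₁ ∈
      Ideal.span (Set.range fun j => map (algebraMap R R') (P.rel j)) := by
    rw [← ker_qHom (A' := A') P.hom P.surj P.rel P.ker_eq hR' hkA]
    show qHom P.hom (a₁' - map (algebraMap R R') a₁) = 0
    rw [map_sub, ha₁', qHom_map, ha₁, sub_self]
  have h4 : a₁' * map (algebraMap R R') (P.rel j) =
      map (algebraMap R R') a₁ * map (algebraMap R R') (P.rel j) +
        (a₁' - map (algebraMap R R') a₁) * map (algebraMap R R') (P.rel j) := by ring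
  rw [h4]
  refine Ideal.add_mem _ h2 (Ideal.mem_sup_right ?_)
  rw [pow_two]
  exact Ideal.mul_mem_mul h3 (Ideal.subset_span ⟨j, rfl⟩)

/-- Strictly standard elements map to strictly standard elements of a quotient. -/
theorem isStrictlyStandard_of_surjective
    (hR' : Function.Surjective (algebraMap R R')) (hA' : Function.Surjective (algebraMap A A'))
    (hkA : RingHom.ker (algebraMap A A') = (RingHom.ker (algebraMap R R')).map (algebraMap R A))
    (a : A) (h : Smoothing.IsStrictlyStandard R A a) :
    Smoothing.IsStrictlyStandard R' A' (algebraMap A A' a) := by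
  obtain ⟨P, hmem, hkill⟩ := h
  refine ⟨qPres P hR' hA' hkA, ?_, killsTail_q P hR' hA' hkA a hkill⟩
  show algebraMap A A' a ∈ Ideal.span (Set.range fun cols : Fin P.c → Fin P.n =>
    qHom P.hom (Smoothing.jacobianMinor (fun j => map (algebraMap R R') (P.rel j))
      (Fin.castLE P.hcm) cols))
  have h1 := Ideal.mem_map_of_mem (algebraMap A A') hmem
  rw [Ideal.map_span, ← Set.range_comp] at h1
  convert h1 using 3
  funext cols
  show qHom P.hom _ = algebraMap A A' (P.hom _)
  rw [H8.StdEl.jacobianMinor_map, qHom_map]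

end

end Groth.Agent.H5.Des
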