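import Mathlib
import Groth.Prelude.Def_Smoothing

/-!
# Invariance of smoothness under surjective change of the base.
-/

set_option autoImplicit false
universe u

namespace Groth.Agent.H5.Des

/-- If `R₀ → R'` is surjective and `T` is an `R'`-algebra that is formally smooth over `R₀`, then
`T` is formally smooth over `R'`. -/
theorem formallySmooth_of_surjective_base {R₀ R' T : Type*} [CommRing R₀] [CommRing R']
    [CommRing T] [Algebra R₀ R'] [Algebra R' T] [Algebra R₀ T] [IsScalarTower R₀ R' T]
    (hs : Function.Surjective (algebraMap R₀ R')) [Algebra.FormallySmooth R₀ T] :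
    Algebra.FormallySmooth R' T := by
  refine .of_comp_surjective fun Q _ _ I e f ↦ ?_
  let := ((algebraMap R' Q).comp (algebraMap R₀ R')).toAlgebra
  let : IsScalarTower R₀ R' Q := IsScalarTower.of_algebraMap_eq' rfl
  let f' : T →ₐ[R'] Q := by
    refine { Algebra.FormallySmooth.lift I ⟨2, e⟩ (f.restrictScalars R₀) with commutes' := ?_ }
    intro r
    obtain ⟨r₀, rfl⟩ := hs r
    change (Algebra.FormallySmooth.lift I ⟨2, e⟩ (f.restrictScalars R₀))
      (algebraMap R' T (algebraMap R₀ R' r₀)) = algebraMap R' Q (algebraMap R₀ R' r₀)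
    rw [← IsScalarTower.algebraMap_apply R₀ R' T, ← IsScalarTower.algebraMap_apply R₀ R' Q,
      AlgHom.commutes]
  use f'
  ext x
  simp [f']

/-- singular ideals: smoothness over `R'` implies smoothness over `R₀` if `R₀ → R'` is
bijective. -/
theorem singularIdeal_le_of_bijective_base {R₀ R' C : Type u} [CommRing R₀] [CommRing R']
    [CommRing C] [Algebra R₀ R'] [Algebra R' C] [Algebra R₀ C] [IsScalarTower R₀ R' C]
    (hb : Function.Bijective (algebraMap R₀ R')) :
    Smoothing.singularIdeal R' C ≤ Smoothing.singularIdeal R₀ C := by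
  intro x hx
  unfold Smoothing.singularIdeal at hx ⊢
  rw [PrimeSpectrum.mem_vanishingIdeal] at hx ⊢
  intro p hp
  apply hx p
  intro hsm
  apply hp
  show Algebra.FormallySmooth R₀ (Localization.AtPrime p.asIdeal)
  haveI : Algebra.FormallySmooth R' (Localization.AtPrime p.asIdeal) := hsm
  haveI : Algebra.FormallySmooth R₀ R' :=
    Algebra.FormallySmooth.of_equiv (AlgEquiv.ofBijective (Algebra.ofId R₀ R') hb)
  exact Algebra.FormallySmooth.comp R₀ R' (Localization.AtPrime p.asIdeal)

end Groth.Agent.H5.Des
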