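import Groth.Agent.Lib.Helper5.Des.Z1
import Groth.Agent.Lib.Helper5.Des.Z2
import Groth.Agent.Lib.Helper5.Des.Y1
import Groth.Agent.Lib.Helper8.StdEl.E
import Groth.Agent.S19959

/-!
# Reduction of the local problem modulo `π⁸` (one step of Stacks 07F1), abstract form.
-/

set_option autoImplicit false
universe u

namespace Groth.Agent.H5.Des

/-- The singular ideal maps into the singular ideal of a quotient. -/
theorem singularIdeal_map_le {R A R' A' : Type u} [CommRing R] [CommRing A] [Algebra R A]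
    [CommRing R'] [CommRing A'] [Algebra R R'] [Algebra R' A'] [Algebra A A'] [Algebra R A']
    [IsScalarTower R R' A'] [IsScalarTower R A A'] [Algebra.FinitePresentation R A]
    [Algebra.FinitePresentation R' A']
    (hR' : Function.Surjective (algebraMap R R')) (hA' : Function.Surjective (algebraMap A A'))
    (hkA : RingHom.ker (algebraMap A A') =
      (RingHom.ker (algebraMap R R')).map (algebraMap R A)) :
    (Smoothing.singularIdeal R A).map (algebraMap A A') ≤ Smoothing.singularIdeal R' A' := by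
  rw [Ideal.map_le_iff_le_comap]
  intro x hx
  rw [Ideal.mem_comap]
  rw [(H8.StdEl.singularIdeal_eq (R := R) (A := A)).1] at hx
  obtain ⟨k, hk⟩ := hx
  have hrad : (Smoothing.singularIdeal R' A').IsRadical :=
    PrimeSpectrum.isRadical_vanishingIdeal _
  apply hrad
  refine ⟨k, ?_⟩
  rw [← map_pow]
  have h1 := Ideal.mem_map_of_mem (algebraMap A A') hk
  rw [Ideal.map_span] at h1
  refine (Ideal.span_le.mpr ?_) h1
  rintro _ ⟨a, ha, rfl⟩
  have hstd := isStrictlyStandard_of_surjective (R' := R') (A' := A') hR' hA' hkA a ha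
  show algebraMap A A' a ∈ PrimeSpectrum.vanishingIdeal _
  rw [PrimeSpectrum.mem_vanishingIdeal]
  intro p hp
  by_contra hnot
  exact hp (H8.StdEl.isSmoothAt_of_isStrictlyStandard hstd p.asIdeal hnot)

set_option maxHeartbeats 1000000 in
/-- One step of the reduction: if the problem modulo `π⁸` can be resolved, so can the problem. -/
theorem resolvable_of_quotient {R A Λ : Type u} [CommRing R] [IsNoetherianRing R] [CommRing A]
    [Algebra R A] [Algebra.FinitePresentation R A] [CommRing Λ] [Algebra R Λ] (φ : A →ₐ[R] Λ)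
    (𝔮 : Ideal Λ) [𝔮.IsPrime] (π : R) (hπ𝔮 : algebraMap R Λ π ∈ 𝔮)
    (hR : ∀ x : R, π ^ 2 * x = 0 → π * x = 0) (hΛ : ∀ x : Λ, π ^ 2 • x = 0 → π • x = 0)
    (hstd : Smoothing.IsStrictlyStandard R A (algebraMap R A π))
    {R' A' Λ' : Type u} [CommRing R'] [CommRing A'] [CommRing Λ'] [Algebra R R'] [Algebra A A']
    [Algebra Λ Λ'] [Algebra R' A'] [Algebra R' Λ'] [Algebra R A'] [Algebra R Λ']
    [IsScalarTower R R' A'] [IsScalarTower R A A'] [IsScalarTower R R' Λ'] [IsScalarTower R Λ Λ']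
    [Algebra.FinitePresentation R' A']
    (hRs : Function.Surjective (algebraMap R R')) (hAs : Function.Surjective (algebraMap A A'))
    (hΛs : Function.Surjective (algebraMap Λ Λ'))
    (hkR : RingHom.ker (algebraMap R R') = Ideal.span {π ^ 8})
    (hkA : RingHom.ker (algebraMap A A') =
      (RingHom.ker (algebraMap R R')).map (algebraMap R A))
    (hkΛ : RingHom.ker (algebraMap Λ Λ') =
      (RingHom.ker (algebraMap R R')).map (algebraMap R Λ))
    (φ' : A' →ₐ[R'] Λ') (hφ' : ∀ a, φ' (algebraMap A A' a) = algebraMap Λ Λ' (φ a))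
    (hres : Smoothing.Resolvable R' φ' (𝔮.map (algebraMap Λ Λ'))) :
    Smoothing.Resolvable R φ 𝔮 := by
  classical
  obtain ⟨C, iC1, iC2, hCfp, gbar, hbar, hcomp, hle, hnle⟩ := hres
  -- the ring R₀ = R/π⁸
  let ebar : R ⧸ Ideal.span {π ^ 8} →+* R' :=
    Ideal.Quotient.lift (Ideal.span {π ^ 8}) (algebraMap R R')
      (fun x hx => by rw [← hkR] at hx; exact hx)
  have hebar : ∀ x, ebar (Ideal.Quotient.mk _ x) = algebraMap R R' x := fun x => rfl
  have hebij : Function.Bijective ebar := by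
    constructor
    · rw [injective_iff_map_eq_zero]
      intro y hy
      obtain ⟨x, rfl⟩ := Ideal.Quotient.mk_surjective y
      rw [hebar] at hy
      rw [Ideal.Quotient.eq_zero_iff_mem, ← hkR]
      exact hy
    · intro y
      obtain ⟨x, rfl⟩ := hRs y
      exact ⟨Ideal.Quotient.mk _ x, rfl⟩
  letI algR₀R' : Algebra (R ⧸ Ideal.span {π ^ 8}) R' := ebar.toAlgebra
  letI algRC : Algebra R C := Algebra.compHom C (algebraMap R R')
  haveI tw1 : IsScalarTower R R' C := IsScalarTower.of_algebraMap_eq (fun _ => rfl)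
  letI algR₀C : Algebra (R ⧸ Ideal.span {π ^ 8}) C := Algebra.compHom C ebar
  haveI tw2 : IsScalarTower (R ⧸ Ideal.span {π ^ 8}) R' C :=
    IsScalarTower.of_algebraMap_eq (fun _ => rfl)
  haveI tw3 : IsScalarTower R (R ⧸ Ideal.span {π ^ 8}) C :=
    IsScalarTower.of_algebraMap_eq (fun _ => rfl)
  haveI fp1 : Algebra.FinitePresentation (R ⧸ Ideal.span {π ^ 8}) R' :=
    Algebra.FinitePresentation.equiv
      (AlgEquiv.ofBijective (Algebra.ofId (R ⧸ Ideal.span {π ^ 8}) R') hebij)
  haveI fp2 : Algebra.FinitePresentation (R ⧸ Ideal.span {π ^ 8}) C :=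
    Algebra.FinitePresentation.trans (R ⧸ Ideal.span {π ^ 8}) R' C
  -- the maps
  let γ : A →ₐ[R] C := (gbar.restrictScalars R).comp (IsScalarTower.toAlgHom R A A')
  have hγ : ∀ a, γ a = gbar (algebraMap A A' a) := fun a => rfl
  have hkΛ' : RingHom.ker (algebraMap Λ Λ') = Ideal.span {algebraMap R Λ (π ^ 8)} := by
    rw [hkΛ, hkR, Ideal.map_span, Set.image_singleton]
  let jj : Λ ⧸ Ideal.span {algebraMap R Λ (π ^ 8)} →+* Λ' :=
    Ideal.Quotient.lift _ (algebraMap Λ Λ') (fun x hx => by rw [← hkΛ'] at hx; exact hx)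
  have hjj : ∀ l, jj (Ideal.Quotient.mk _ l) = algebraMap Λ Λ' l := fun l => rfl
  have hjjbij : Function.Bijective jj := by
    constructor
    · rw [injective_iff_map_eq_zero]
      intro y hy
      obtain ⟨x, rfl⟩ := Ideal.Quotient.mk_surjective y
      rw [hjj] at hy
      rw [Ideal.Quotient.eq_zero_iff_mem, ← hkΛ']
      exact hy
    · intro y
      obtain ⟨x, rfl⟩ := hΛs y
      exact ⟨Ideal.Quotient.mk _ x, rfl⟩
  let ιe : Λ ⧸ Ideal.span {algebraMap R Λ (π ^ 8)} ≃+* Λ' := RingEquiv.ofBijective jj hjjbij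
  have hιe : ∀ l, ιe (Ideal.Quotient.mk _ l) = algebraMap Λ Λ' l := fun l => rfl
  let g : C →ₐ[R] Λ ⧸ Ideal.span {algebraMap R Λ (π ^ 8)} :=
    { toRingHom := ιe.symm.toRingHom.comp hbar.toRingHom
      commutes' := by
        intro x
        show ιe.symm (hbar (algebraMap R C x)) = _
        rw [RingEquiv.symm_apply_eq]
        have e1 : algebraMap R C x = algebraMap R' C (algebraMap R R' x) := rfl
        rw [e1, hbar.commutes, ← IsScalarTower.algebraMap_apply R R' Λ',
          IsScalarTower.algebraMap_apply R Λ Λ']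
        rfl }
  have hg : ∀ c, ιe (g c) = hbar c := fun c => by
    show ιe (ιe.symm (hbar c)) = hbar c
    rw [RingEquiv.apply_symm_apply]
  have hfac : ∀ a : A, g (γ a) =
      Ideal.Quotient.mk (Ideal.span {algebraMap R Λ (π ^ 8)}) (φ a) := by
    intro a
    apply ιe.injective
    rw [hg, hιe, hγ, ← hφ', ← hcomp]
    rfl
  obtain ⟨B, iB1, iB2, hBfp, α, β, hβα, hsm, hsing⟩ :=
    Groth.Agent.S19959.result π hR hΛ φ hstd γ g hfac
  refine ⟨B, iB1, iB2, hBfp, α, β, hβα, ?_, ?_⟩
  all_goals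
    have hH : Smoothing.singularIdeal R' C ≤
        Smoothing.singularIdeal (R ⧸ Ideal.span {π ^ 8}) C :=
      singularIdeal_le_of_bijective_base hebij
    have hπsing : algebraMap R B π ∈ Smoothing.singularIdeal R B := by
      unfold Smoothing.singularIdeal
      rw [PrimeSpectrum.mem_vanishingIdeal]
      intro x hx
      by_contra hnot
      exact hx (hsm x.asIdeal hnot)
    have key : ∀ c ∈ Smoothing.singularIdeal R' C,
        ∃ l ∈ ((Smoothing.singularIdeal R B).map β).radical, algebraMap Λ Λ' l = hbar c := by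
      intro c hc
      have h1 := hsing (Ideal.mem_map_of_mem g (hH hc))
      rw [Ideal.mem_map_iff_of_surjective _ Ideal.Quotient.mk_surjective] at h1
      obtain ⟨l, hl, hlg⟩ := h1
      refine ⟨l, hl, ?_⟩
      rw [← hιe, hlg, hg]
    have hker𝔭 : ∀ 𝔭 : Ideal Λ, algebraMap R Λ π ∈ 𝔭 → RingHom.ker (algebraMap Λ Λ') ≤ 𝔭 := by
      intro 𝔭 h𝔭
      rw [hkΛ', Ideal.span_le]
      intro y hy
      rw [Set.mem_singleton_iff.mp hy, map_pow]
      exact Ideal.pow_mem_of_mem _ h𝔭 8 (by norm_num)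
  · -- singRad R φ ≤ singRad R β
    unfold Smoothing.singRad
    rw [Ideal.radical_le_radical_iff, Ideal.radical_eq_sInf]
    refine le_sInf ?_
    rintro 𝔭 ⟨h𝔭le, h𝔭⟩
    haveI := h𝔭
    have hπ𝔭 : algebraMap R Λ π ∈ 𝔭 := by
      have := h𝔭le (Ideal.mem_map_of_mem β hπsing)
      rwa [β.commutes] at this
    have hk𝔭 := hker𝔭 𝔭 hπ𝔭
    haveI : (𝔭.map (algebraMap Λ Λ')).IsPrime := Ideal.map_isPrime_of_surjective hΛs hk𝔭
    have hcomap : (𝔭.map (algebraMap Λ Λ')).comap (algebraMap Λ Λ') = 𝔭 := by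
      rw [Ideal.comap_map_of_surjective _ hΛs, sup_eq_left]
      exact hk𝔭
    have h1 : (Smoothing.singularIdeal R' C).map hbar ≤ 𝔭.map (algebraMap Λ Λ') := by
      rw [Ideal.map_le_iff_le_comap]
      intro c hc
      rw [Ideal.mem_comap]
      obtain ⟨l, hl, hlc⟩ := key c hc
      rw [← hlc]
      refine Ideal.mem_map_of_mem _ ?_
      exact (Ideal.IsPrime.radical_le_iff h𝔭).mpr h𝔭le hl
    have h2 : Smoothing.singRad R' hbar ≤ 𝔭.map (algebraMap Λ Λ') := by
      unfold Smoothing.singRad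
      exact (Ideal.IsPrime.radical_le_iff inferInstance).mpr h1
    have h3 : (Smoothing.singularIdeal R' A').map φ' ≤ 𝔭.map (algebraMap Λ Λ') :=
      Ideal.le_radical.trans (hle.trans h2)
    rw [Ideal.map_le_iff_le_comap]
    intro a ha
    rw [Ideal.mem_comap, ← hcomap, Ideal.mem_comap, ← hφ']
    apply h3
    refine Ideal.mem_map_of_mem _ ?_
    exact singularIdeal_map_le hRs hAs hkA (Ideal.mem_map_of_mem _ ha)
  · -- ¬ singRad R β ≤ 𝔮
    intro hle𝔮
    apply hnle
    have hk𝔮 := hker𝔭 𝔮 hπ𝔮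
    haveI : (𝔮.map (algebraMap Λ Λ')).IsPrime := Ideal.map_isPrime_of_surjective hΛs hk𝔮
    unfold Smoothing.singRad
    rw [Ideal.IsPrime.radical_le_iff inferInstance, Ideal.map_le_iff_le_comap]
    intro c hc
    rw [Ideal.mem_comap]
    obtain ⟨l, hl, hlc⟩ := key c hc
    rw [← hlc]
    exact Ideal.mem_map_of_mem _ (hle𝔮 hl)

end Groth.Agent.H5.Des
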