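import Groth.Agent.Lib.Helper5.Des.Z3

/-!
# Reduction of the local problem modulo `(π₁⁸, …, π_r⁸)`: concrete quotient triples and one step.
-/

set_option autoImplicit false
universe u
open TensorProduct

namespace Groth.Agent.H5.Des

section
variable {R A Λ : Type u} [CommRing R] [CommRing A] [Algebra R A] [CommRing Λ] [Algebra R Λ]

/-- the map induced on quotients by an ideal of the base. -/
noncomputable def phiK (K : Ideal R) (φ : A →ₐ[R] Λ) :
    (A ⧸ K.map (algebraMap R A)) →ₐ[R ⧸ K] (Λ ⧸ K.map (algebraMap R Λ)) :=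
  { toRingHom := Ideal.quotientMap (K.map (algebraMap R Λ)) φ.toRingHom (by
      rw [← Ideal.map_le_iff_le_comap, Ideal.map_map]
      have : φ.toRingHom.comp (algebraMap R A) = algebraMap R Λ := φ.comp_algebraMap
      rw [this])
    commutes' := by
      intro x
      obtain ⟨r, rfl⟩ := Ideal.Quotient.mk_surjective x
      show Ideal.quotientMap (K.map (algebraMap R Λ)) φ.toRingHom _
        (Ideal.Quotient.mk _ (algebraMap R A r)) = Ideal.Quotient.mk _ (algebraMap R Λ r)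
      rw [Ideal.quotientMap_mk]
      congr 1
      exact φ.commutes r }

theorem phiK_mk (K : Ideal R) (φ : A →ₐ[R] Λ) (a : A) :
    phiK K φ (Ideal.Quotient.mk _ a) = Ideal.Quotient.mk _ (φ a) := rfl

instance finitePresentation_quotient (K : Ideal R) [Algebra.FinitePresentation R A] :
    Algebra.FinitePresentation (R ⧸ K) (A ⧸ K.map (algebraMap R A)) :=
  Algebra.FinitePresentation.equiv
    (Algebra.TensorProduct.quotIdealMapEquivQuotTensor A K).symm

end

set_option maxHeartbeats 1000000 in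
/-- One step of the reduction in the concrete form. -/
theorem resolvable_step {R A Λ : Type u} [CommRing R] [IsNoetherianRing R] [CommRing A]
    [Algebra R A] [Algebra.FinitePresentation R A] [CommRing Λ] [Algebra R Λ] (φ : A →ₐ[R] Λ)
    (𝔮 : Ideal Λ) [𝔮.IsPrime] (K₁ : Ideal R) (hK₁𝔮 : K₁.map (algebraMap R Λ) ≤ 𝔮) (p : R)
    (hp𝔮 : algebraMap R Λ p ∈ 𝔮) (hR : ∀ y : R, p ^ 2 * y ∈ K₁ → p * y ∈ K₁)
    (hΛ : ∀ y : Λ, algebraMap R Λ p ^ 2 * y ∈ K₁.map (algebraMap R Λ) →
      algebraMap R Λ p * y ∈ K₁.map (algebraMap R Λ))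
    (hstd : Smoothing.IsStrictlyStandard R A (algebraMap R A p))
    {R' A' Λ' : Type u} [CommRing R'] [CommRing A'] [CommRing Λ'] [Algebra R R'] [Algebra A A']
    [Algebra Λ Λ'] [Algebra R' A'] [Algebra R' Λ'] [Algebra R A'] [Algebra R Λ']
    [IsScalarTower R R' A'] [IsScalarTower R A A'] [IsScalarTower R R' Λ'] [IsScalarTower R Λ Λ']
    [Algebra.FinitePresentation R' A']
    (hRs : Function.Surjective (algebraMap R R')) (hAs : Function.Surjective (algebraMap A A'))
    (hΛs : Function.Surjective (algebraMap Λ Λ'))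
    (hkR : RingHom.ker (algebraMap R R') = K₁ ⊔ Ideal.span {p ^ 8})
    (hkA : RingHom.ker (algebraMap A A') =
      (RingHom.ker (algebraMap R R')).map (algebraMap R A))
    (hkΛ : RingHom.ker (algebraMap Λ Λ') =
      (RingHom.ker (algebraMap R R')).map (algebraMap R Λ))
    (φ' : A' →ₐ[R'] Λ') (hφ' : ∀ a, φ' (algebraMap A A' a) = algebraMap Λ Λ' (φ a))
    (hres : Smoothing.Resolvable R' φ' (𝔮.map (algebraMap Λ Λ'))) :
    Smoothing.Resolvable (R ⧸ K₁) (phiK K₁ φ)
      (𝔮.map (Ideal.Quotient.mk (K₁.map (algebraMap R Λ)))) := by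
  classical
  have hK₁le : K₁ ≤ RingHom.ker (algebraMap R R') := by rw [hkR]; exact le_sup_left
  have hK₁A : K₁.map (algebraMap R A) ≤ RingHom.ker (algebraMap A A') := by
    rw [hkA]; exact Ideal.map_mono hK₁le
  have hK₁Λ : K₁.map (algebraMap R Λ) ≤ RingHom.ker (algebraMap Λ Λ') := by
    rw [hkΛ]; exact Ideal.map_mono hK₁le
  -- the algebra structures
  let eR : R ⧸ K₁ →+* R' := Ideal.Quotient.lift K₁ (algebraMap R R') hK₁le
  let eA : A ⧸ K₁.map (algebraMap R A) →+* A' := Ideal.Quotient.lift _ (algebraMap A A') hK₁A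
  let eΛ : Λ ⧸ K₁.map (algebraMap R Λ) →+* Λ' := Ideal.Quotient.lift _ (algebraMap Λ Λ') hK₁Λ
  letI i1 : Algebra (R ⧸ K₁) R' := eR.toAlgebra
  letI i2 : Algebra (A ⧸ K₁.map (algebraMap R A)) A' := eA.toAlgebra
  letI i3 : Algebra (Λ ⧸ K₁.map (algebraMap R Λ)) Λ' := eΛ.toAlgebra
  letI i4 : Algebra (R ⧸ K₁) A' := ((algebraMap R' A').comp eR).toAlgebra
  letI i5 : Algebra (R ⧸ K₁) Λ' := ((algebraMap R' Λ').comp eR).toAlgebra
  haveI t1 : IsScalarTower (R ⧸ K₁) R' A' := IsScalarTower.of_algebraMap_eq (fun _ => rfl)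
  haveI t2 : IsScalarTower (R ⧸ K₁) R' Λ' := IsScalarTower.of_algebraMap_eq (fun _ => rfl)
  haveI t3 : IsScalarTower (R ⧸ K₁) (A ⧸ K₁.map (algebraMap R A)) A' := by
    refine IsScalarTower.of_algebraMap_eq fun x => ?_
    obtain ⟨r, rfl⟩ := Ideal.Quotient.mk_surjective x
    show algebraMap R' A' (algebraMap R R' r) = algebraMap A A' (algebraMap R A r)
    rw [← IsScalarTower.algebraMap_apply, ← IsScalarTower.algebraMap_apply]
  haveI t4 : IsScalarTower (R ⧸ K₁) (Λ ⧸ K₁.map (algebraMap R Λ)) Λ' := by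
    refine IsScalarTower.of_algebraMap_eq fun x => ?_
    obtain ⟨r, rfl⟩ := Ideal.Quotient.mk_surjective x
    show algebraMap R' Λ' (algebraMap R R' r) = algebraMap Λ Λ' (algebraMap R Λ r)
    rw [← IsScalarTower.algebraMap_apply, ← IsScalarTower.algebraMap_apply]
  have heR : ∀ r, algebraMap (R ⧸ K₁) R' (Ideal.Quotient.mk _ r) = algebraMap R R' r :=
    fun r => rfl
  have heA : ∀ a, algebraMap (A ⧸ K₁.map (algebraMap R A)) A' (Ideal.Quotient.mk _ a) =
      algebraMap A A' a := fun a => rfl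
  have heΛ : ∀ l, algebraMap (Λ ⧸ K₁.map (algebraMap R Λ)) Λ' (Ideal.Quotient.mk _ l) =
      algebraMap Λ Λ' l := fun l => rfl
  -- the prime
  haveI h𝔮' : (𝔮.map (Ideal.Quotient.mk (K₁.map (algebraMap R Λ)))).IsPrime := by
    refine Ideal.map_isPrime_of_surjective Ideal.Quotient.mk_surjective ?_
    rw [Ideal.mk_ker]
    exact hK₁𝔮
  have hmapmap : (𝔮.map (Ideal.Quotient.mk (K₁.map (algebraMap R Λ)))).map
      (algebraMap (Λ ⧸ K₁.map (algebraMap R Λ)) Λ') = 𝔮.map (algebraMap Λ Λ') := by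
    rw [Ideal.map_map]
    rfl
  -- kernels
  have hk1 : RingHom.ker (algebraMap (R ⧸ K₁) R') =
      Ideal.span {(Ideal.Quotient.mk K₁ p) ^ 8} := by
    show RingHom.ker (Ideal.Quotient.lift K₁ (algebraMap R R') hK₁le) = _
    rw [Ideal.ker_quotient_lift, hkR, Ideal.map_sup, Ideal.map_quotient_self, bot_sup_eq,
      Ideal.map_span, Set.image_singleton, map_pow]
  have hk2 : RingHom.ker (algebraMap (A ⧸ K₁.map (algebraMap R A)) A') =
      (RingHom.ker (algebraMap (R ⧸ K₁) R')).map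
        (algebraMap (R ⧸ K₁) (A ⧸ K₁.map (algebraMap R A))) := by
    show RingHom.ker (Ideal.Quotient.lift _ (algebraMap A A') hK₁A) =
      (RingHom.ker (Ideal.Quotient.lift K₁ (algebraMap R R') hK₁le)).map _
    rw [Ideal.ker_quotient_lift, Ideal.ker_quotient_lift, hkA, Ideal.map_map, Ideal.map_map]
    rfl
  have hk3 : RingHom.ker (algebraMap (Λ ⧸ K₁.map (algebraMap R Λ)) Λ') =
      (RingHom.ker (algebraMap (R ⧸ K₁) R')).map
        (algebraMap (R ⧸ K₁) (Λ ⧸ K₁.map (algebraMap R Λ))) := by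
    show RingHom.ker (Ideal.Quotient.lift _ (algebraMap Λ Λ') hK₁Λ) =
      (RingHom.ker (Ideal.Quotient.lift K₁ (algebraMap R R') hK₁le)).map _
    rw [Ideal.ker_quotient_lift, Ideal.ker_quotient_lift, hkΛ, Ideal.map_map, Ideal.map_map]
    rfl
  refine resolvable_of_quotient (R := R ⧸ K₁) (A := A ⧸ K₁.map (algebraMap R A))
    (Λ := Λ ⧸ K₁.map (algebraMap R Λ)) (phiK K₁ φ)
    (𝔮.map (Ideal.Quotient.mk (K₁.map (algebraMap R Λ)))) (Ideal.Quotient.mk K₁ p)
    ?_ ?_ ?_ ?_ (R' := R') (A' := A') (Λ' := Λ') ?_ ?_ ?_ hk1 hk2 hk3 φ' ?_ ?_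
  · -- π ∈ 𝔮
    show Ideal.Quotient.mk _ (algebraMap R Λ p) ∈ _
    exact Ideal.mem_map_of_mem _ hp𝔮
  · -- annihilators in R/K₁
    intro x hx
    obtain ⟨y, rfl⟩ := Ideal.Quotient.mk_surjective x
    rw [← map_pow, ← map_mul, Ideal.Quotient.eq_zero_iff_mem] at hx
    rw [← map_mul, Ideal.Quotient.eq_zero_iff_mem]
    exact hR y hx
  · -- annihilators in Λ/K₁Λ
    intro x hx
    obtain ⟨y, rfl⟩ := Ideal.Quotient.mk_surjective x
    rw [← map_pow, Ideal.Quotient.mk_smul_mk_quotient_map_quotient,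
      Ideal.Quotient.eq_zero_iff_mem, map_pow] at hx
    rw [Ideal.Quotient.mk_smul_mk_quotient_map_quotient, Ideal.Quotient.eq_zero_iff_mem]
    exact hΛ y hx
  · -- strictly standard
    have h := isStrictlyStandard_of_surjective (R := R) (A := A) (R' := R ⧸ K₁)
      (A' := A ⧸ K₁.map (algebraMap R A)) Ideal.Quotient.mk_surjective
      Ideal.Quotient.mk_surjective (by
        show RingHom.ker (Ideal.Quotient.mk _) = (RingHom.ker (Ideal.Quotient.mk K₁)).map _
        rw [Ideal.mk_ker, Ideal.mk_ker]) (algebraMap R A p) hstd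
    exact h
  · exact Ideal.Quotient.lift_surjective_of_surjective _ _ hRs
  · exact Ideal.Quotient.lift_surjective_of_surjective _ _ hAs
  · exact Ideal.Quotient.lift_surjective_of_surjective _ _ hΛs
  · intro a
    obtain ⟨a₀, rfl⟩ := Ideal.Quotient.mk_surjective a
    rw [heA, phiK_mk, heΛ]
    exact hφ' a₀
  · rw [hmapmap]
    exact hres

end Groth.Agent.H5.Des
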