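import Groth.Agent.Lib.Helper5.Des.Z4

/-!
# Reduction of the local problem modulo `(π₁⁸, …, π_r⁸)` (Stacks 07F1): the induction.
-/

set_option autoImplicit false
universe u

namespace Groth.Agent.H5.Des

theorem image_lt_castSucc {X : Type*} {n : ℕ} (f : Fin (n + 1) → X) (i : Fin n) :
    (fun j : Fin n => f (Fin.castSucc j)) '' {j | j < i} = f '' {j | j < Fin.castSucc i} := by
  ext x
  constructor
  · rintro ⟨j, hj, rfl⟩
    exact ⟨Fin.castSucc j, Fin.castSucc_lt_castSucc_iff.mpr hj, rfl⟩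
  · rintro ⟨j, hj, rfl⟩
    induction j using Fin.lastCases with
    | last =>
      exact absurd hj (not_lt.mpr (Fin.castSucc_lt_last i).le)
    | cast j' =>
      exact ⟨j', Fin.castSucc_lt_castSucc_iff.mp hj, rfl⟩

theorem image_lt_last {X : Type*} {n : ℕ} (f : Fin (n + 1) → X) :
    f '' {j | j < Fin.last n} = Set.range (fun j : Fin n => f (Fin.castSucc j)) := by
  ext x
  constructor
  · rintro ⟨j, hj, rfl⟩
    induction j using Fin.lastCases with
    | last => exact absurd (show Fin.last n < Fin.last n from hj) (lt_irrefl _)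
    | cast j' => exact ⟨j', rfl⟩
  · rintro ⟨j, rfl⟩
    exact ⟨Fin.castSucc j, Fin.castSucc_lt_last j, rfl⟩

theorem range_eq_castSucc_union {X : Type*} {n : ℕ} (f : Fin (n + 1) → X) :
    Set.range f = Set.range (fun j : Fin n => f (Fin.castSucc j)) ∪ {f (Fin.last n)} := by
  ext x
  constructor
  · rintro ⟨j, rfl⟩
    induction j using Fin.lastCases with
    | last => exact Or.inr rfl
    | cast j' => exact Or.inl ⟨j', rfl⟩
  · rintro (⟨j, rfl⟩ | h)
    · exact ⟨_, rfl⟩
    · rw [Set.mem_singleton_iff.mp h]; exact ⟨_, rfl⟩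

set_option maxHeartbeats 1000000 in
theorem resolvable_induction {R A Λ : Type u} [CommRing R] [IsNoetherianRing R] [CommRing A]
    [Algebra R A] [Algebra.FinitePresentation R A] [CommRing Λ] [Algebra R Λ] (φ : A →ₐ[R] Λ)
    (𝔮 : Ideal Λ) [𝔮.IsPrime] (r : ℕ) :
    ∀ (π : Fin (r + 1) → R) (_ : ∀ i, algebraMap R Λ (π i) ∈ 𝔮)
      (_ : ∀ i : Fin (r + 1), ∀ y : R,
        π i ^ 2 * y ∈ Ideal.span ((fun j => π j ^ 8) '' {j | j < i}) →
          π i * y ∈ Ideal.span ((fun j => π j ^ 8) '' {j | j < i}))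
      (_ : ∀ i : Fin (r + 1), ∀ y : Λ,
        algebraMap R Λ (π i) ^ 2 * y ∈
            Ideal.span ((fun j => algebraMap R Λ (π j) ^ 8) '' {j | j < i}) →
          algebraMap R Λ (π i) * y ∈
            Ideal.span ((fun j => algebraMap R Λ (π j) ^ 8) '' {j | j < i}))
      (_ : ∀ i, Smoothing.IsStrictlyStandard R A (algebraMap R A (π i)))
      {R' A' Λ' : Type u} [CommRing R'] [CommRing A'] [CommRing Λ'] [Algebra R R'] [Algebra A A']
      [Algebra Λ Λ'] [Algebra R' A'] [Algebra R' Λ'] [Algebra R A'] [Algebra R Λ']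
      [IsScalarTower R R' A'] [IsScalarTower R A A'] [IsScalarTower R R' Λ']
      [IsScalarTower R Λ Λ'] [Algebra.FinitePresentation R' A']
      (_ : Function.Surjective (algebraMap R R')) (_ : Function.Surjective (algebraMap A A'))
      (_ : Function.Surjective (algebraMap Λ Λ'))
      (_ : RingHom.ker (algebraMap R R') = Ideal.span (Set.range fun i => π i ^ 8))
      (_ : RingHom.ker (algebraMap A A') =
        (RingHom.ker (algebraMap R R')).map (algebraMap R A))
      (_ : RingHom.ker (algebraMap Λ Λ') =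
        (RingHom.ker (algebraMap R R')).map (algebraMap R Λ))
      (φ' : A' →ₐ[R'] Λ') (_ : ∀ a, φ' (algebraMap A A' a) = algebraMap Λ Λ' (φ a))
      (_ : Smoothing.Resolvable R' φ' (𝔮.map (algebraMap Λ Λ'))),
      Smoothing.Resolvable R φ 𝔮 := by
  induction r with
  | zero =>
    intro π hπ𝔮 hR hΛ hstd R' A' Λ' _ _ _ _ _ _ _ _ _ _ _ _ _ _ _ hRs hAs hΛs hkR hkA hkΛ φ' hφ' hres
    have hempty : {j : Fin (0 + 1) | j < 0} = ∅ := by
      ext j
      simp
    have hR0 : ∀ x : R, π 0 ^ 2 * x = 0 → π 0 * x = 0 := by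
      intro x hx
      have := hR 0 x
      rw [hempty, Set.image_empty, Ideal.span_empty, Ideal.mem_bot, Ideal.mem_bot] at this
      exact this hx
    have hΛ0 : ∀ x : Λ, π 0 ^ 2 • x = 0 → π 0 • x = 0 := by
      intro x hx
      have := hΛ 0 x
      rw [hempty, Set.image_empty, Ideal.span_empty, Ideal.mem_bot, Ideal.mem_bot] at this
      rw [Algebra.smul_def, map_pow] at hx
      rw [Algebra.smul_def]
      exact this hx
    have hrange : Set.range (fun i : Fin (0 + 1) => π i ^ 8) = {π 0 ^ 8} := by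
      ext x
      constructor
      · rintro ⟨i, rfl⟩
        have : i = 0 := Fin.ext (by have := i.2; omega)
        rw [this]; rfl
      · intro hx
        rw [Set.mem_singleton_iff.mp hx]
        exact ⟨0, rfl⟩
    have hkR0 : RingHom.ker (algebraMap R R') = Ideal.span {π 0 ^ 8} := by
      rw [hkR, hrange]
    exact resolvable_of_quotient φ 𝔮 (π 0) (hπ𝔮 0) hR0 hΛ0 (hstd 0) hRs hAs hΛs hkR0 hkA hkΛ
      φ' hφ' hres
  | succ r ih =>
    intro π hπ𝔮 hR hΛ hstd R' A' Λ' _ _ _ _ _ _ _ _ _ _ _ _ _ _ _ hRs hAs hΛs hkR hkA hkΛ φ' hφ' hres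
    set K₁ : Ideal R := Ideal.span (Set.range fun i : Fin (r + 1) => π (Fin.castSucc i) ^ 8)
      with hK₁
    have hK₁Λ : K₁.map (algebraMap R Λ) =
        Ideal.span ((fun j => algebraMap R Λ (π j) ^ 8) '' {j | j < Fin.last (r + 1)}) := by
      rw [hK₁, Ideal.map_span, image_lt_last (fun j => algebraMap R Λ (π j) ^ 8),
        ← Set.range_comp]
      congr 2
      funext j
      simp only [Function.comp_apply, map_pow]
    have hK₁𝔮 : K₁.map (algebraMap R Λ) ≤ 𝔮 := by
      rw [hK₁, Ideal.map_span, Ideal.span_le]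
      rintro _ ⟨_, ⟨j, rfl⟩, rfl⟩
      rw [map_pow]
      exact Ideal.pow_mem_of_mem _ (hπ𝔮 _) 8 (by norm_num)
    have hK₁eq : K₁ = Ideal.span ((fun j => π j ^ 8) '' {j | j < Fin.last (r + 1)}) := by
      rw [hK₁, image_lt_last (fun j => π j ^ 8)]
    have hRl : ∀ y : R, π (Fin.last (r + 1)) ^ 2 * y ∈ K₁ → π (Fin.last (r + 1)) * y ∈ K₁ := by
      intro y hy
      rw [hK₁eq] at hy ⊢
      exact hR _ y hy
    have hΛl : ∀ y : Λ, algebraMap R Λ (π (Fin.last (r + 1))) ^ 2 * y ∈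
        K₁.map (algebraMap R Λ) →
          algebraMap R Λ (π (Fin.last (r + 1))) * y ∈ K₁.map (algebraMap R Λ) := by
      intro y hy
      rw [hK₁Λ] at hy ⊢
      exact hΛ _ y hy
    have hkR' : RingHom.ker (algebraMap R R') = K₁ ⊔ Ideal.span {π (Fin.last (r + 1)) ^ 8} := by
      rw [hkR, range_eq_castSucc_union (fun i => π i ^ 8), Ideal.span_union]
    have hstep := resolvable_step φ 𝔮 K₁ hK₁𝔮 (π (Fin.last (r + 1))) (hπ𝔮 _) hRl hΛl (hstd _)
      hRs hAs hΛs hkR' hkA hkΛ φ' hφ' hres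
    refine ih (fun i => π (Fin.castSucc i)) (fun i => hπ𝔮 _) ?_ ?_ (fun i => hstd _)
      (R' := R ⧸ K₁) (A' := A ⧸ K₁.map (algebraMap R A)) (Λ' := Λ ⧸ K₁.map (algebraMap R Λ))
      Ideal.Quotient.mk_surjective Ideal.Quotient.mk_surjective Ideal.Quotient.mk_surjective
      ?_ ?_ ?_ (phiK K₁ φ) (fun a => phiK_mk K₁ φ a) hstep
    · intro i y hy
      rw [image_lt_castSucc (fun j => π j ^ 8) i] at hy ⊢
      exact hR _ y hy
    · intro i y hy
      rw [image_lt_castSucc (fun j => algebraMap R Λ (π j) ^ 8) i] at hy ⊢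
      exact hΛ _ y hy
    · show RingHom.ker (Ideal.Quotient.mk K₁) = _
      rw [Ideal.mk_ker]
    · show RingHom.ker (Ideal.Quotient.mk _) = (RingHom.ker (Ideal.Quotient.mk K₁)).map _
      rw [Ideal.mk_ker, Ideal.mk_ker]
    · show RingHom.ker (Ideal.Quotient.mk _) = (RingHom.ker (Ideal.Quotient.mk K₁)).map _
      rw [Ideal.mk_ker, Ideal.mk_ker]

end Groth.Agent.H5.Des
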